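import Groth.Agent.Sga3.H801.CentralComm

/-!
# Morphisms `T₁ × T₂ ⟶ G` (tori) which are multiplicative in the first variable and trivial on `T₁ × 1` are trivial

Variant of `Sga3.H801.CentralComm.commute_of_central`.
-/

set_option autoImplicit false

universe u

open CategoryTheory MonoidalCategory CartesianMonoidalCategory MonObj GrpObj AlgebraicGeometry Limits

namespace K17.Bihom

open Groth.Agent Groth.Agent.Sga3B Groth.Agent.Sga3B.BcPts Groth.Agent.Sga3.H801.CentralComm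

variable {S : Scheme.{u}} {G T₁ T₂ : Over S}

/-- the morphism `b`, over the base `T₂` -/
noncomputable def bhHom (b : T₁ ⊗ T₂ ⟶ G) : Red.bc T₂.hom T₁ ⟶ Red.bc T₂.hom G :=
  bcEquiv T₂.hom _ G (lift ((bcEquiv T₂.hom _ T₁).symm (𝟙 _)) (taut T₂ _) ≫ b)

lemma comp_bhHom (b : T₁ ⊗ T₂ ⟶ G) {Z : Over T₂.left} (z : Z ⟶ Red.bc T₂.hom T₁) :
    z ≫ bhHom b = bcEquiv T₂.hom Z G (lift ((bcEquiv T₂.hom Z T₁).symm z) (taut T₂ Z) ≫ b) := by
  rw [bhHom, ← comp_bcEquiv, ← Category.assoc, comp_lift, comp_taut, ← comp_bcEquiv_symm, Category.comp_id]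

variable [GrpObj G] [GrpObj T₁]

lemma isMonHom_bhHom (b : T₁ ⊗ T₂ ⟶ G)
    (hmul : ∀ (X : Over S) (t t' : X ⟶ T₁) (r : X ⟶ T₂),
      lift (t * t') r ≫ b = (lift t r ≫ b) * (lift t' r ≫ b)) :
    IsMonHom (bhHom b) := by
  refine InfConjFam.isMonHom_of_mul _ fun Z z z' => ?_
  rw [comp_bhHom, comp_bhHom, comp_bhHom, ← bcEquiv_mul, ← hmul]
  congr 3
  exact map_mul (bcMulEquiv T₂.hom Z T₁).symm z z'

/-- **A morphism `T₁ × T₂ ⟶ G` multiplicative in the first variable and trivial on `T₁ × 1` is trivial.** -/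
theorem eq_one_of_bihom [GrpObj T₂] [IsSeparated G.hom] [LocallyOfFiniteType G.hom]
    (h₁ : Red.IsTorus T₁) (h₂ : Red.IsTorus T₂) (b : T₁ ⊗ T₂ ⟶ G)
    (hmul : ∀ (X : Over S) (t t' : X ⟶ T₁) (r : X ⟶ T₂),
      lift (t * t') r ≫ b = (lift t r ≫ b) * (lift t' r ≫ b))
    (hone : ∀ (X : Over S) (t : X ⟶ T₁), lift t (1 : X ⟶ T₂) ≫ b = 1)
    (X : Over S) (t : X ⟶ T₁) (r : X ⟶ T₂) : lift t r ≫ b = 1 := by
  have hm := isMonHom_bhHom b hmul
  have hm1 : IsMonHom (1 : Red.bc T₂.hom T₁ ⟶ Red.bc T₂.hom G) :=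
    InfConjFam.isMonHom_of_mul _ fun Z z z' => by
      rw [MonObj.comp_one, MonObj.comp_one, MonObj.comp_one, _root_.mul_one]
  have : IsSeparated (Red.bc T₂.hom G).hom := inferInstanceAs (IsSeparated (pullback.snd _ _))
  have : LocallyOfFiniteType (Red.bc T₂.hom G).hom :=
    inferInstanceAs (LocallyOfFiniteType (pullback.snd _ _))
  have hirr := TorusIrr.geometricallyIrreducible_of_isTorus h₂
  obtain ⟨U, hU, hU'⟩ := Sga3.H798.AgreeOpen.exists_clopen (bhHom b)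
    (1 : Red.bc T₂.hom T₁ ⟶ Red.bc T₂.hom G) (TorusBc.isTorus_bc T₂.hom h₁) (fun X x y => by
      rw [MonObj.comp_one, _root_.mul_one, _root_.one_mul])
  -- the unit section is contained in `U`
  have hη : Set.range η[T₂].left ⊆ U := by
    refine (hU' (Over.mk η[T₂].left)).mp ?_
    rw [comp_bhHom, MonObj.comp_one]
    have e1 : taut T₂ (Over.mk η[T₂].left) = 1 := by
      have h3 : (1 : (Over.map T₂.hom).obj (Over.mk η[T₂].left) ⟶ T₂) = toUnit _ ≫ η[T₂] := by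
        rw [MonObj.one_eq_one, MonObj.comp_one]
      rw [h3]
      ext1
      rw [Over.comp_left, Over.toUnit_left]
      have h4 : η[T₂].left ≫ T₂.hom = 𝟙 S := Over.w η[T₂]
      change η[T₂].left = (η[T₂].left ≫ T₂.hom) ≫ η[T₂].left
      rw [h4]
      exact (Category.id_comp _).symm
    have e2 : taut T₂ (Red.bc T₂.hom T₁ ⊗ Over.mk η[T₂].left) = 1 := by
      rw [← comp_taut T₂ (snd (Red.bc T₂.hom T₁) (Over.mk η[T₂].left)), e1, MonObj.comp_one]
    rw [e2, hone]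
    exact bcEquiv_one _
  have hU1 : ∀ p : T₂.left, p ∈ U := by
    intro p
    refine (isPreconnected_fiber T₂.hom (T₂.hom p)).subset_isClopen ⟨hU, U.2⟩
      ⟨η[T₂].left (T₂.hom p), ?_, hη ⟨_, rfl⟩⟩ rfl
    have h4 : η[T₂].left ≫ T₂.hom = 𝟙 S := Over.w η[T₂]
    change T₂.hom (η[T₂].left (T₂.hom p)) = T₂.hom p
    rw [← Scheme.Hom.comp_apply, h4]
    rfl
  have key := (hU' (Over.mk (𝟙 T₂.left))).mpr (fun p _ => hU1 p)
  let r' : X ⟶ Over.mk T₂.hom := Over.homMk r.left (Over.w r)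
  let Z : Over T₂.left := Over.mk r.left
  let o : (Over.map T₂.hom).obj Z ≅ X := overIso r'
  let z : Z ⟶ Red.bc T₂.hom T₁ := bcEquiv T₂.hom Z T₁ (o.hom ≫ t)
  have h5 := congrArg (fun k => lift z (Over.homMk r.left : Z ⟶ Over.mk (𝟙 T₂.left)) ≫ k) key
  simp only [lift_fst_assoc, MonObj.comp_one] at h5
  rw [comp_bhHom] at h5
  have h6 : taut T₂ Z = o.hom ≫ r := by
    ext1
    simp only [taut, Over.homMk_left, Over.comp_left, o, overIso_hom_left]
    exact (Category.id_comp _).symm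
  rw [Equiv.symm_apply_apply, h6, ← comp_lift, Category.assoc] at h5
  have h7 : o.hom ≫ lift t r ≫ b = 1 := by
    apply (bcEquiv T₂.hom Z G).injective
    rw [h5, bcEquiv_one]
  rw [← cancel_epi o.hom, h7, MonObj.comp_one]

end K17.Bihom
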