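import Groth.Agent.Sga3C.QuotProps

/-!
# Lifting points along flat surjective morphisms, after a flat surjective base change
-/

set_option autoImplicit false

universe u

open CategoryTheory MonoidalCategory CartesianMonoidalCategory MonObj GrpObj AlgebraicGeometry Limits

namespace K17.Lift

variable {S : Scheme.{u}}

/-- a point of `Q` lifts to `G` after a base change which is as good as `q` -/
theorem exists_lift {G Q : Over S} (q : G ⟶ Q) [Flat q.left] [Surjective q.left] {X : Over S} (t : X ⟶ Q) :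
    ∃ (X' : Over S) (p : X' ⟶ X) (t' : X' ⟶ G), Flat p.left ∧ Surjective p.left ∧ Epi p ∧
      t' ≫ q = p ≫ t ∧ IsPullback p.left t'.left t.left q.left := by
  have h := (IsPullback.of_hasPullback t q).map (Over.forget S)
  have h1 : Flat (pullback.fst t q).left := MorphismProperty.of_isPullback (P := @Flat) h.flip ‹_›
  have h2 : Surjective (pullback.fst t q).left := MorphismProperty.of_isPullback (P := @Surjective) h.flip ‹_›
  have h3 : Epi (pullback.fst t q) := Groth.Agent.Sga3C.QuotProps.epi_of_flat_surjective _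
  exact ⟨_, pullback.fst t q, pullback.snd t q, h1, h2, h3, pullback.condition.symm, h⟩

section quotient

variable {Z G Q : Over S} [GrpObj G]

/-- Points with the same image in the quotient differ by a point of the subgroup. -/
theorem exists_mul {z : Z ⟶ G} {q : G ⟶ Q} (hq : IsPullback (fst G Z) ((G ◁ z) ≫ μ[G]) q q) {X : Over S}
    (x y : X ⟶ G) (h : x ≫ q = y ≫ q) : ∃ n : X ⟶ Z, y = x * (n ≫ z) := by
  obtain ⟨l, h1, h2⟩ : ∃ l : X ⟶ G ⊗ Z, l ≫ fst G Z = x ∧ l ≫ (G ◁ z) ≫ μ[G] = y :=
    ⟨hq.lift x y h, hq.lift_fst _ _ _, hq.lift_snd _ _ _⟩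
  refine ⟨l ≫ snd G Z, ?_⟩
  rw [Hom.mul_def, ← h2, ← h1, ← Category.assoc]
  congr 1
  ext1 <;> simp

/-- The projection to the quotient is invariant. -/
theorem mul_comp {z : Z ⟶ G} {q : G ⟶ Q} (hq : IsPullback (fst G Z) ((G ◁ z) ≫ μ[G]) q q) {X : Over S}
    (x : X ⟶ G) (n : X ⟶ Z) : (x * (n ≫ z)) ≫ q = x ≫ q := by
  have h := hq.w
  have h1 := congrArg (fun k => lift x n ≫ k) h
  simp only [lift_fst_assoc] at h1
  rw [h1, Hom.mul_def, Category.assoc, Category.assoc]
  rw [← Category.assoc (lift x n)]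
  congr 1
  ext1 <;> simp

end quotient

end K17.Lift
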