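import Groth.Agent.SGA3x.K197.RatNodes
import Mathlib.Algebra.Lie.Engel

/-!
# The theorem of Engel-Jacobson for weakly closed sets of nilpotent elements
-/

set_option autoImplicit false
universe u v

namespace K17.Engel

open LieModule hiding IsNilpotent
open LieAlgebra

variable {k : Type u} {L : Type v} [Field k] [LieRing L] [LieAlgebra k L]

/-- A subalgebra acting nilpotently on `L` and not containing the bracket-closed set `S` has an element of `S`
outside, which normalizes it. -/
theorem exists_normalizing (S : Set L) (hbr : ∀ x ∈ S, ∀ y ∈ S, ⁅x, y⁆ ∈ S) (K : LieSubalgebra k L)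
    (hK : Submodule.span k ((K : Set L) ∩ S) = K.toSubmodule) (hn : LieModule.IsNilpotent K L)
    (s : L) (hs : s ∈ S) (hsK : s ∉ K) : ∃ t ∈ S, t ∉ K ∧ t ∈ K.normalizer := by
  by_contra! H
  have step : ∀ t ∈ S, t ∉ K → ∃ x : K, (x : L) ∈ S ∧ ⁅(x : L), t⁆ ∈ S ∧ ⁅(x : L), t⁆ ∉ K := by
    intro t ht htK
    by_contra! H2
    apply H t ht htK
    rw [LieSubalgebra.mem_normalizer_iff]
    intro y hy
    have hy' : y ∈ Submodule.span k ((K : Set L) ∩ S) := by rw [hK]; exact hy
    have h3 : ⁅y, t⁆ ∈ K := by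
      induction hy' using Submodule.span_induction with
      | mem x hx => exact H2 ⟨x, hx.1⟩ hx.2 (hbr x hx.2 t ht)
      | zero => rw [zero_lie]; exact K.zero_mem
      | add a b ha hb iha ihb =>
        rw [add_lie]
        refine K.add_mem (iha ?_) (ihb ?_)
        · have : a ∈ K.toSubmodule := hK ▸ ha
          exact this
        · have : b ∈ K.toSubmodule := hK ▸ hb
          exact this
      | smul c a ha iha =>
        rw [smul_lie]
        refine K.smul_mem c (iha ?_)
        have : a ∈ K.toSubmodule := hK ▸ ha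
        exact this
    rw [← lie_skew]
    exact K.neg_mem h3
  have key : ∀ n : ℕ, ∃ t ∈ S, t ∉ K ∧ t ∈ lowerCentralSeries k K L n := by
    intro n
    induction n with
    | zero => exact ⟨s, hs, hsK, by simp⟩
    | succ n ih =>
      obtain ⟨t, ht, htK, htn⟩ := ih
      obtain ⟨x, hx, h1, h2⟩ := step t ht htK
      refine ⟨⁅(x : L), t⁆, h1, h2, ?_⟩
      rw [LieModule.lowerCentralSeries_succ]
      exact LieSubmodule.lie_mem_lie (LieSubmodule.mem_top x) htn
  obtain ⟨n, hn⟩ := LieModule.IsNilpotent.nilpotent k K L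
  obtain ⟨t, -, htK, htn⟩ := key n
  rw [hn, LieSubmodule.mem_bot] at htn
  exact htK (htn ▸ K.zero_mem)

/-- Adding a normalizing nilpotent element. -/
theorem exists_bigger (K : LieSubalgebra k L) (hn : LieModule.IsNilpotent K L) (x : L) (hx : x ∈ K.normalizer)
    (hnil : IsNilpotent (LieAlgebra.ad k L x)) :
    ∃ K' : LieSubalgebra k L, K'.toSubmodule = Submodule.span k {x} ⊔ K.toSubmodule ∧
      LieModule.IsNilpotent K' L := by
  let K' : LieSubalgebra k L :=
    { (Submodule.span k {x}) ⊔ (K : Submodule k L) with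
      lie_mem' := fun {y z} => LieSubalgebra.lie_mem_sup_of_mem_normalizer hx }
  have hxK' : x ∈ K' := Submodule.mem_sup_left (Submodule.subset_span (Set.mem_singleton _))
  have hKK' : K ≤ K' := (LieSubalgebra.toSubmodule_le_toSubmodule K K').mp le_sup_right
  have hK' : K' ≤ K.normalizer := by
    rw [← LieSubalgebra.toSubmodule_le_toSubmodule]
    exact sup_le ((Submodule.span_singleton_le_iff_mem _ _).mpr hx) K.le_normalizer
  refine ⟨K', rfl, ?_⟩
  obtain ⟨I, hI₁ : (I : LieSubalgebra k K') = LieSubalgebra.ofLe hKK'⟩ :=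
    LieSubalgebra.exists_nested_lieIdeal_ofLe_normalizer hKK' hK'
  have hI₂ : Submodule.span k {(⟨x, hxK'⟩ : K')} ⊔ LieSubmodule.toSubmodule I = ⊤ := by
    rw [← LieIdeal.toLieSubalgebra_toSubmodule k K' I, hI₁]
    apply Submodule.map_injective_of_injective (K' : Submodule k L).injective_subtype
    simp only [LieSubalgebra.coe_ofLe, Submodule.map_sup, Submodule.map_subtype_range_inclusion,
      Submodule.map_top, Submodule.range_subtype]
    rw [Submodule.map_subtype_span_singleton]
  have e : K ≃ₗ⁅k⁆ I :=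
    (LieSubalgebra.equivOfLe hKK').trans
      (LieEquiv.ofEq _ _ ((LieSubalgebra.coe_set_eq _ _).mpr hI₁.symm))
  have hI₃ : LieModule.IsNilpotent I L := by
    have surj_id : Function.Surjective (LinearMap.id : L →ₗ[k] L) := Function.surjective_id
    let f : K →ₗ⁅k⁆ I := ((LieSubalgebra.equivOfLe hKK').trans
      (LieEquiv.ofEq _ _ ((LieSubalgebra.coe_set_eq _ _).mpr hI₁.symm)) : K ≃ₗ⁅k⁆ I).toLieHom
    have hf : Function.Surjective f := LieEquiv.surjective _
    have hfg : ∀ (y : K) (m : L), ⁅f y, (LinearMap.id : L →ₗ[k] L) m⁆ = (LinearMap.id : L →ₗ[k] L) ⁅y, m⁆ :=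
      fun y m => rfl
    exact hf.lieModuleIsNilpotent hfg surj_id
  refine LieSubmodule.isNilpotentOfIsNilpotentSpanSupEqTop hI₂ ?_ hI₃
  exact hnil

/-- **Engel-Jacobson.** A finite-dimensional Lie algebra spanned by a bracket-closed set of ad-nilpotent elements is
nilpotent. -/
theorem isNilpotent [IsNoetherian k L] (S : Set L) (hS : Submodule.span k S = ⊤)
    (hbr : ∀ x ∈ S, ∀ y ∈ S, ⁅x, y⁆ ∈ S) (hnil : ∀ x ∈ S, IsNilpotent (LieAlgebra.ad k L x)) :
    LieRing.IsNilpotent L := by
  let s := {K : LieSubalgebra k L | Submodule.span k ((K : Set L) ∩ S) = K.toSubmodule ∧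
    LieModule.IsNilpotent K L}
  have hs : s.Nonempty := by
    refine ⟨⊥, le_antisymm ?_ ?_, ?_⟩
    · rw [Submodule.span_le]
      exact Set.inter_subset_left
    · intro x hx
      have : x = 0 := by simpa using hx
      rw [this]
      exact Submodule.zero_mem _
    · have : Subsingleton (⊥ : LieSubalgebra k L) := LieSubalgebra.subsingleton_bot
      refine (LieAlgebra.isEngelian_of_subsingleton (R := k) (L := (⊥ : LieSubalgebra k L))) L (fun x => ?_)
      rw [Subsingleton.elim x 0, map_zero]
      exact IsNilpotent.zero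
  obtain ⟨K, hK₁, hK₂⟩ := (LieSubalgebra.wellFoundedGT_of_noetherian k L).wf.has_min s hs
  have htop : K = ⊤ := by
    by_contra hne
    have h1 : ∃ x ∈ S, x ∉ K := by
      by_contra! H
      apply hne
      rw [← LieSubalgebra.toSubmodule_inj, LieSubalgebra.top_toSubmodule, eq_top_iff, ← hS, Submodule.span_le]
      exact H
    obtain ⟨x, hxS, hxK⟩ := h1
    obtain ⟨t, htS, htK, htn⟩ := exists_normalizing S hbr K hK₁.1 hK₁.2 x hxS hxK
    obtain ⟨K', hK', hn'⟩ := exists_bigger K hK₁.2 t htn (hnil t htS)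
    have hle : K ≤ K' := by
      rw [← LieSubalgebra.toSubmodule_le_toSubmodule, hK']
      exact le_sup_right
    have htK' : t ∈ K' := by
      have : t ∈ K'.toSubmodule := by
        rw [hK']; exact Submodule.mem_sup_left (Submodule.subset_span (Set.mem_singleton _))
      exact this
    refine hK₂ K' ⟨?_, hn'⟩ (lt_of_le_of_ne hle (fun h => htK (h ▸ htK')))
    refine le_antisymm ?_ ?_
    · rw [Submodule.span_le]
      exact Set.inter_subset_left
    · rw [hK']
      refine sup_le ?_ ?_
      · rw [Submodule.span_singleton_le_iff_mem]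
        exact Submodule.subset_span ⟨htK', htS⟩
      · rw [← hK₁.1]
        exact Submodule.span_mono (Set.inter_subset_inter_left _ hle)
  subst htop
  rw [LieRing.IsNilpotent, ← LieModule.isNilpotent_of_top_iff (R := k)]
  exact hK₁.2

theorem main : K197.Rat.N1_gradedEngel.{u} := by
  intro k L _ _ _ _ S hS hbr hnil
  exact isNilpotent S hS hbr hnil

end K17.Engel
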