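import Groth.Agent.SGA3x.K197.RatNodes3
import Groth.Agent.SGA3x.K17.Engel
import Mathlib.RingTheory.Finiteness.Nilpotent

/-!
# Node `P1_nil`: the centralizer of the Lie algebra of a maximal torus is nilpotent
-/

set_option autoImplicit false
universe u
open Coalgebra WithConv K197.Rat

namespace K17.RatNil

noncomputable section

section conv

variable {k A R : Type u} [Field k] [CommRing A] [HopfAlgebra k A] [CommRing R] [Algebra k R]

/-- locally nilpotent for the convolution product -/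
def LocNil (Z : Cv k A R) : Prop := ∀ a : A, ∃ n₀ : ℕ, ∀ n ≥ n₀, (Z ^ n) a = 0

lemma LocNil.bound {Z : Cv k A R} (h : LocNil Z) (s : Finset A) : ∃ n₀ : ℕ, ∀ a ∈ s, ∀ n ≥ n₀, (Z ^ n) a = 0 := by
  classical
  choose f hf using h
  refine ⟨s.sup f, fun a ha n hn => hf a n ((Finset.le_sup ha).trans hn)⟩

lemma LocNil.conv {Z : Cv k A R} (h : LocNil Z) (y : Cv k A R) (a : A) :
    ∃ n₀ : ℕ, ∀ i j : ℕ, n₀ ≤ i + j → (Z ^ i * (y * Z ^ j)) a = 0 := by
  classical
  obtain ⟨n₁, h₁⟩ := h.bound ((ℛ k a).index.image (ℛ k a).left)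
  obtain ⟨n₂, h₂⟩ := h.bound ((ℛ k a).index.biUnion fun u =>
    (ℛ k ((ℛ k a).right u)).index.image (ℛ k ((ℛ k a).right u)).right)
  refine ⟨n₁ + n₂, fun i j hij => ?_⟩
  rw [(ℛ k a).convMul_apply]
  refine Finset.sum_eq_zero fun u hu => ?_
  by_cases hi : n₁ ≤ i
  · have := h₁ _ (Finset.mem_image_of_mem _ hu) i hi
    change (Z ^ i) ((ℛ k a).left u) * _ = 0
    rw [this, zero_mul]
  · have hj : n₂ ≤ j := by omega
    have h3 : (y * Z ^ j) ((ℛ k a).right u) = 0 := by
      rw [(ℛ k ((ℛ k a).right u)).convMul_apply]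
      refine Finset.sum_eq_zero fun v hv => ?_
      have := h₂ _ (Finset.mem_biUnion.2 ⟨u, hu, Finset.mem_image_of_mem _ hv⟩) j hj
      change _ * (Z ^ j) ((ℛ k ((ℛ k a).right u)).right v) = 0
      rw [this, mul_zero]
    change _ * (y * Z ^ j) ((ℛ k a).right u) = 0
    rw [h3, mul_zero]

/-- iterated bracket -/
def br (Z y : Cv k A R) : ℕ → Cv k A R
  | 0 => y
  | n + 1 => ⁅Z, br Z y n⁆

lemma br_conv (Z y : Cv k A R) (a : A) (n₀ : ℕ) (h : ∀ i j : ℕ, n₀ ≤ i + j → (Z ^ i * (y * Z ^ j)) a = 0) (n : ℕ) :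
    ∀ i j : ℕ, n₀ ≤ i + n + j → (Z ^ i * (br Z y n * Z ^ j)) a = 0 := by
  induction n with
  | zero => exact fun i j hij => h i j (by omega)
  | succ n ih =>
    intro i j hij
    have e : Z ^ i * (br Z y (n + 1) * Z ^ j) = Z ^ (i + 1) * (br Z y n * Z ^ j) - Z ^ i * (br Z y n * Z ^ (j + 1)) := by
      rw [br, lie_eq, pow_succ, pow_succ', sub_mul, mul_sub]
      simp only [_root_.mul_assoc]
    rw [e, sub_apply', ih (i + 1) j (by omega), ih i (j + 1) (by omega), sub_zero]

lemma isDer_br {Z y : Cv k A R} (hZ : IsDer Z) (hy : IsDer y) (n : ℕ) : IsDer (br Z y n) := by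
  induction n with
  | zero => exact hy
  | succ n ih => exact hZ.comm ih

/-- **The adjoint action of a locally nilpotent derivation is locally nilpotent.** -/
theorem LocNil.exists_br [Algebra.FiniteType k A] {Z : Cv k A R} (h : LocNil Z) (hZ : IsDer Z) {y : Cv k A R}
    (hy : IsDer y) : ∃ n, br Z y n = 0 := by
  classical
  obtain ⟨s, hs⟩ := (Algebra.FiniteType.out : (⊤ : Subalgebra k A).FG)
  choose f hf using fun a => h.conv y a
  refine ⟨s.sup f, ?_⟩
  refine (isDer_br hZ hy _).ext_of_adjoin isDer_zero (s : Set A) hs fun a ha => ?_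
  have h1 := br_conv Z y a (f a) (hf a) (s.sup f) 0 0 (by
    have := Finset.le_sup (f := f) (Finset.mem_coe.1 ha)
    omega)
  rw [pow_zero, _root_.one_mul, _root_.mul_one] at h1
  rw [h1, zero_apply']

end conv

section wt

variable {k K A : Type u} [Field k] [Field K] [Algebra k K] [CommRing A] [HopfAlgebra k A]
  {N : Type} [AddCommGroup N] {t : Pt k A (GA K N)}

lemma gl_mul (χ ψ : N) : (gl K χ * gl K ψ : GA K N) = gl K (χ + ψ) := by
  rw [MonoidAlgebra.single_mul_single, _root_.one_mul]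
  rfl

lemma isWt_lie {χ ψ : N} {X Y : Cv k A K} (hX : IsWt t χ X) (hY : IsWt t ψ Y) : IsWt t (χ + ψ) ⁅X, Y⁆ := by
  unfold IsWt at hX hY ⊢
  rw [up_lie, Ad_lie, hX, hY, ← gl_mul, lie_eq, lie_eq, smul_sub, smul_mul_assoc, smul_mul_assoc,
    mul_smul_comm, mul_smul_comm, smul_smul, smul_smul, _root_.mul_comm (gl K ψ)]

/-- the component, as a linear map -/
def compL (t : Pt k A (GA K N)) (χ : N) : Cv k A K →ₗ[K] Cv k A K where
  toFun := comp t χ
  map_add' := comp_add χ
  map_smul' := comp_smul χ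

lemma compL_apply (χ : N) (X : Cv k A K) : compL t χ X = comp t χ X := rfl

lemma comp_sum_smul [DecidableEq N] {ι : Type*} (s : Finset ι) (w : ι → N) (f : ι → Cv k A K) (g : ι → K)
    (h : ∀ i ∈ s, IsWt t (w i) (f i)) (χ : N) :
    comp t χ (∑ i ∈ s, g i • f i) = ∑ i ∈ s, if w i = χ then g i • f i else 0 := by
  rw [← compL_apply, map_sum]
  refine Finset.sum_congr rfl fun i hi => ?_
  rw [map_smul, compL_apply, (h i hi).comp_eq χ]
  split_ifs
  · rfl
  · rw [smul_zero]

/-- There are only finitely many weights. -/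
lemma exists_zero [Algebra.FiniteType k A] (f : ℕ → Cv k A K) (hf : ∀ n, IsDer (f n)) (w : ℕ → N)
    (hw : Function.Injective w) (h : ∀ n, IsWt t (w n) (f n)) : ∃ n, f n = 0 := by
  classical
  by_contra! H
  have h1 : LinearIndependent K (fun n => (⟨f n, hf n⟩ : Der k A K)) := by
    rw [linearIndependent_iff']
    intro s g hg i hi
    have h2 : ∑ j ∈ s, g j • f j = 0 := by
      have := congrArg Subtype.val hg
      rwa [Submodule.coe_sum] at this
    have h3 := comp_sum_smul s w f g (fun j _ => h j) (w i)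
    rw [h2] at h3
    have h4 : comp t (w i) (0 : Cv k A K) = 0 := by rw [← compL_apply, map_zero]
    rw [h4] at h3
    have h5 : (∑ j ∈ s, if w j = w i then g j • f j else 0) = g i • f i := by
      rw [Finset.sum_eq_single i]
      · rw [if_pos rfl]
      · intro j _ hj
        rw [if_neg fun e => hj (hw e)]
      · exact fun h => absurd hi h
    rw [h5] at h3
    exact (smul_eq_zero.1 h3.symm).resolve_right (H i)
  have := h1.finite_of_isNoetherian
  exact not_finite ℕ

lemma comp_mem (ht : IsHomT t) [Algebra.FiniteType k A] {D : Cv k A K} (hD : D ∈ hK t) (χ : N) :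
    comp t χ D ∈ hK t := by
  classical
  refine ⟨IsDer.comp hD.1 χ, fun lam => ?_⟩
  rw [dh_lie ht lam (isWt_comp ht χ D)]
  obtain ⟨S, hS, e⟩ := exists_sum ht hD.1
  have h1 : (0 : Cv k A K) = ∑ ψ ∈ S, lam ψ • comp t ψ D := by
    have h2 := hD.2 lam
    rw [← h2]
    conv_lhs => rw [e]
    rw [lie_eq, Finset.mul_sum, Finset.sum_mul, ← Finset.sum_sub_distrib]
    refine Finset.sum_congr rfl fun ψ _ => ?_
    rw [← lie_eq, dh_lie ht lam (isWt_comp ht ψ D)]
  have h3 := comp_sum_smul S id (fun ψ => comp t ψ D) (fun ψ => lam ψ) (fun ψ _ => isWt_comp ht ψ D) χ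
  rw [← h1] at h3
  have h4 : comp t χ (0 : Cv k A K) = 0 := by rw [← compL_apply, map_zero]
  rw [h4] at h3
  by_cases hχ : χ ∈ S
  · have h5 : (∑ j ∈ S, if id j = χ then lam j • comp t j D else 0) = lam χ • comp t χ D := by
      rw [Finset.sum_eq_single χ]
      · exact if_pos rfl
      · intro j _ hj
        exact if_neg hj
      · exact fun h => absurd hχ h
    rw [h5] at h3
    exact h3.symm
  · rw [hS χ hχ, smul_zero]

/-- the centralizer as a Lie algebra -/
def LK (t : Pt k A (GA K N)) : LieSubalgebra K (Cv k A K) where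
  toSubmodule := hK t
  lie_mem' := by
    intro x y hx hy
    refine ⟨hx.1.comm hy.1, fun lam => ?_⟩
    rw [leibniz_lie, hx.2 lam, hy.2 lam, lie_zero, zero_lie, add_zero]

instance [Algebra.FiniteType k A] : FiniteDimensional K (LK t) := by
  have h : hK t ≤ Der k A K := fun D hD => hD.1
  exact Submodule.finiteDimensional_of_le h

/-- the homogeneous elements -/
def Hom (t : Pt k A (GA K N)) : Set (LK t) := {x | ∃ χ, IsWt t χ x.1}

lemma span_hom (ht : IsHomT t) [Algebra.FiniteType k A] : Submodule.span K (Hom t) = ⊤ := by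
  rw [eq_top_iff]
  rintro ⟨D, hD⟩ -
  obtain ⟨S, hS, e⟩ := exists_sum ht hD.1
  have h1 : (⟨D, hD⟩ : LK t) = ∑ χ ∈ S, (⟨comp t χ D, comp_mem ht hD χ⟩ : LK t) := by
    apply Subtype.ext
    refine e.trans ?_
    exact (map_sum (LK t).toSubmodule.subtype (fun χ => (⟨comp t χ D, comp_mem ht hD χ⟩ : LK t)) S).symm
  rw [h1]
  exact Submodule.sum_mem _ fun χ _ => Submodule.subset_span ⟨χ, isWt_comp ht χ D⟩

lemma ad_pow (x y : LK t) (n : ℕ) : (((LieAlgebra.ad K (LK t) x) ^ n) y : LK t).1 = br x.1 y.1 n := by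
  induction n with
  | zero => rfl
  | succ n ih =>
    rw [pow_succ', Module.End.mul_apply, br, ← ih]
    rfl

lemma nil_of_ne [Algebra.FiniteType k A] [IsAddTorsionFree N] (ht : IsHomT t) (x : LK t) {χ : N} (hχ : χ ≠ 0)
    (hx : IsWt t χ x.1) : IsNilpotent (LieAlgebra.ad K (LK t) x) := by
  rw [Module.End.isNilpotent_iff_of_finite]
  intro y
  have hy : y ∈ Submodule.span K (Hom t) := by rw [span_hom ht]; trivial
  have hup : ∀ (y : LK t) (n m : ℕ), n ≤ m → ((LieAlgebra.ad K (LK t) x) ^ n) y = 0 →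
      ((LieAlgebra.ad K (LK t) x) ^ m) y = 0 := by
    intro y n m h e
    obtain ⟨c, rfl⟩ := Nat.exists_eq_add_of_le h
    rw [add_comm, pow_add, Module.End.mul_apply, e, map_zero]
  induction hy using Submodule.span_induction with
  | mem y hy =>
    obtain ⟨ψ, hψ⟩ := hy
    have hw : ∀ n, IsWt t (n • χ + ψ) (br x.1 y.1 n) := by
      intro n
      induction n with
      | zero => rw [zero_smul, zero_add]; exact hψ
      | succ n ih =>
        rw [succ_nsmul', add_assoc]
        exact isWt_lie hx ih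
    obtain ⟨n, hn⟩ := exists_zero (fun n => br x.1 y.1 n) (isDer_br x.2.1 y.2.1) (fun n => n • χ + ψ) (by
      intro n m h
      have h1 : n • χ = m • χ := add_right_cancel h
      have h2 : ((n : ℤ) - m) • χ = 0 := by rw [sub_smul, natCast_zsmul, natCast_zsmul, h1, sub_self]
      have h3 := (IsAddTorsionFree.zsmul_eq_zero_iff_left hχ).1 h2
      omega) hw
    refine ⟨n, Subtype.ext ?_⟩
    rw [ad_pow]
    exact hn
  | zero => exact ⟨0, map_zero _⟩
  | add a b _ _ iha ihb =>
    obtain ⟨n, hn⟩ := iha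
    obtain ⟨m, hm⟩ := ihb
    refine ⟨n + m, ?_⟩
    rw [map_add, hup a n _ (by omega) hn, hup b m _ (by omega) hm, add_zero]
  | smul c a _ iha =>
    obtain ⟨n, hn⟩ := iha
    exact ⟨n, by rw [map_smul, hn, smul_zero]⟩

lemma nil_zero [Algebra.FiniteType k A] (ht : IsHomT t)
    (h7 : ∀ X : Cv k A K, IsDer X → IsWt t 0 X → ∃ lam : N →+ K, ∀ a : A, ∃ n₀ : ℕ, ∀ n ≥ n₀,
      ((X - dh t lam) ^ n) a = 0) (x : LK t) (hx : IsWt t 0 x.1) : IsNilpotent (LieAlgebra.ad K (LK t) x) := by
  rw [Module.End.isNilpotent_iff_of_finite]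
  intro y
  obtain ⟨lam, h⟩ := h7 x.1 x.2.1 hx
  have hZ : IsDer (x.1 - dh t lam) := x.2.1.sub (isDer_dh ht lam).1
  obtain ⟨n, hn⟩ := LocNil.exists_br h hZ y.2.1
  refine ⟨n, Subtype.ext ?_⟩
  have e : ∀ n, br (x.1 - dh t lam) y.1 n = (((LieAlgebra.ad K (LK t) x) ^ n) y : LK t).1 := by
    intro n
    induction n with
    | zero => rfl
    | succ n ih =>
      have h1 := (((LieAlgebra.ad K (LK t) x) ^ n) y).2.2 lam
      rw [br, ih, sub_lie, h1, sub_zero, pow_succ', Module.End.mul_apply]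
      rfl
  rw [← e, hn]
  rfl

end wt

/-- **Node `P1_nil`.** -/
theorem main : K197.Rat.P1_nil.{u} := by
  intro k K A _ _ _ _ _ _ r t ht h7
  have hnil : LieRing.IsNilpotent (LK t) := by
    refine K17.Engel.main K (LK t) (Hom t) (span_hom ht) ?_ ?_
    · rintro x ⟨χ, hx⟩ y ⟨ψ, hy⟩
      exact ⟨χ + ψ, isWt_lie hx hy⟩
    · rintro x ⟨χ, hx⟩
      by_cases hχ : χ = 0
      · subst hχ
        exact nil_zero ht h7 x hx
      · exact nil_of_ne ht x hχ hx
  obtain ⟨m, hm⟩ := LieModule.IsNilpotent.nilpotent K (LK t) (LK t)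
  refine ⟨m, fun Y hY => ?_⟩
  have key : ∀ (n j : ℕ), j + n = m → ∀ y : LK t, y ∈ LieModule.lowerCentralSeries K (LK t) (LK t) j →
      Kill (hK t : Set (Cv k A K)) n y.1 := by
    intro n
    induction n with
    | zero =>
      intro j hj y hy
      have hj' : j = m := by omega
      subst hj'
      rw [hm] at hy
      have : y = 0 := (LieSubmodule.mem_bot y).1 hy
      rw [this]
      rfl
    | succ n ih =>
      intro j hj y hy x hx
      refine ih (j + 1) (by omega) ⁅(⟨x, hx⟩ : LK t), y⁆ ?_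
      rw [LieModule.lowerCentralSeries_succ]
      exact LieSubmodule.lie_mem_lie (LieSubmodule.mem_top _) hy
  exact key m 0 (by omega) ⟨Y, hY⟩ (by simp)

end

end K17.RatNil
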