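import Groth.Agent.SGA3x.K17.TrTower
import Groth.Agent.VarietyB.DimSch

/-!
# Residue fields of points of schemes locally of finite type over two fields: counting transcendence degrees
-/

set_option autoImplicit false
universe u

open CategoryTheory AlgebraicGeometry Limits
open K197.Rat Groth.Agent.VarietyB

namespace K17.TrCount

/-- The residue field map of a point of a `K`-scheme. -/
theorem fromSpecResidueField_comp {K : Type u} [Field K] {X : Scheme.{u}} (f : X ⟶ Spec (CommRingCat.of K)) (x : X) :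
    X.fromSpecResidueField x ≫ f = Spec.map (CommRingCat.ofHom (@Curv2.resMap K _ X ⟨f⟩ x)) := by
  have key : X.fromSpecStalk x ≫ f = Spec.map (CommRingCat.ofHom (@Curv2.stalkMap K _ X ⟨f⟩ x)) := by
    apply ext_of_isAffine
    rw [Scheme.Hom.comp_appTop, Scheme.fromSpecStalk_appTop]
    have h2 := Scheme.ΓSpecIso_inv_naturality (CommRingCat.ofHom (@Curv2.stalkMap K _ X ⟨f⟩ x))
    rw [← cancel_epi (Scheme.ΓSpecIso (CommRingCat.of K)).inv, ← h2]
    have h3 : (Spec (X.presheaf.stalk x)).presheaf.map
        (homOfLE (le_top : (⊤ : (Spec (X.presheaf.stalk x)).Opens) ≤ ⊤)).op = 𝟙 _ :=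
      (Spec (X.presheaf.stalk x)).presheaf.map_id _
    erw [h3, Category.comp_id]
    rfl
  rw [Scheme.fromSpecResidueField, Category.assoc, key, ← Spec.map_comp]
  rfl

/-- The transcendence degree of the residue field of the point underlying `x : Spec F ⟶ X`. -/
theorem exists_point {K F : Type u} [Field K] [Field F] [Algebra K F] {X : Scheme.{u}}
    (f : X ⟶ Spec (CommRingCat.of K)) (x : Spec (CommRingCat.of F) ⟶ X) (hx : IsResidue x) (hxk : x ≫ f = bs K F) :
    @Algebra.trdeg K (X.residueField (x (IsLocalRing.closedPoint F))) _ _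
      (@Curv2.resAlgebra K _ X ⟨f⟩ (x (IsLocalRing.closedPoint F))) = Algebra.trdeg K F := by
  obtain ⟨p, φ, rfl⟩ := hx
  have hp : (Spec.map φ.hom ≫ X.fromSpecResidueField p) (IsLocalRing.closedPoint F) = p := by
    exact Scheme.fromSpecResidueField_apply p _
  rw [hp]
  let _ := @Curv2.resAlgebra K _ X ⟨f⟩ p
  rw [Category.assoc, fromSpecResidueField_comp, ← Spec.map_comp] at hxk
  have h1 := Spec.map_injective hxk
  let e : X.residueField p ≃+* F := φ.commRingCatIsoToRingEquiv
  refine AlgEquiv.trdeg_eq (AlgEquiv.ofRingEquiv (f := e) fun c => ?_)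
  exact congrArg (fun g => g.hom c) h1

/-- A point of an irreducible scheme with zero-dimensional local ring is the generic point. -/
theorem closure_eq_univ {X : Scheme.{u}} [IrreducibleSpace X] (x : X)
    (h : ringKrullDim (X.presheaf.stalk x) ≤ 0) : closure {x} = (Set.univ : Set X) := by
  have h0 : genericPoint X ∈ Set.range (X.fromSpecStalk x) := by
    rw [Scheme.range_fromSpecStalk]
    exact genericPoint_specializes x
  obtain ⟨q, hq⟩ := h0
  have h1 : Ring.KrullDimLE 0 (X.presheaf.stalk x) := Ring.krullDimLE_iff.mpr (by exact_mod_cast h)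
  have h2 : q = IsLocalRing.closedPoint (X.presheaf.stalk x) := by
    apply PrimeSpectrum.ext
    exact IsLocalRing.eq_maximalIdeal (q.isPrime.isMaximal')
  rw [h2, Scheme.fromSpecStalk_closedPoint] at hq
  rw [hq]
  exact genericPoint_closure _

theorem count {k K' F : Type u} [Field k] [Field K'] [Field F] [Algebra k K'] [Algebra K' F] [Algebra k F]
    [IsScalarTower k K' F] {X : Scheme.{u}} (f : X ⟶ Spec (CommRingCat.of k)) [LocallyOfFiniteType f]
    (x : Spec (CommRingCat.of F) ⟶ X) (hx : IsResidue x) (hxk : x ≫ f = bs k F)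
    (hgen : closure {x (IsLocalRing.closedPoint F)} = Set.univ)
    {X' : Scheme.{u}} (f' : X' ⟶ Spec (CommRingCat.of K')) [LocallyOfFiniteType f'] [IrreducibleSpace X']
    (x' : Spec (CommRingCat.of F) ⟶ X') (hx' : IsResidue x') (hx'k : x' ≫ f' = bs K' F)
    (m d : ℕ) (v : Fin m → K') (hv : IntermediateField.adjoin k (Set.range v) = ⊤)
    (hd' : topologicalKrullDim X' = (d : WithBot ℕ∞)) (hd : topologicalKrullDim X = ((m + d : ℕ) : WithBot ℕ∞)) :
    AlgebraicIndependent k v ∧ closure {x' (IsLocalRing.closedPoint F)} = Set.univ := by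
  have hF : Algebra.trdeg k F = ((m + d : ℕ) : Cardinal) := by
    let _ : X.Over (Spec (CommRingCat.of k)) := ⟨f⟩
    have : LocallyOfFiniteType (X ↘ Spec (CommRingCat.of k)) := ‹LocallyOfFiniteType f›
    have hI : IsIrreducible (Set.univ : Set X) := hgen ▸ isIrreducible_singleton.closure
    have : IrreducibleSpace X := { isPreirreducible_univ := hI.2, toNonempty := ⟨hI.1.some⟩ }
    have h1 : genericPoint X = x (IsLocalRing.closedPoint F) :=
      (genericPoint_spec X).eq hgen
    rw [← exists_point f x hx hxk, DimSch.trdeg_eq_trd k, ← h1]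
    rw [DimSch.topologicalKrullDim_eq_trd k] at hd
    exact_mod_cast hd
  let _ : X'.Over (Spec (CommRingCat.of K')) := ⟨f'⟩
  have : LocallyOfFiniteType (X' ↘ Spec (CommRingCat.of K')) := ‹LocallyOfFiniteType f'›
  set p' := x' (IsLocalRing.closedPoint F) with hp'
  have hF' : Algebra.trdeg K' F = (DimSch.trd K' X' p' : Cardinal) := by
    rw [← exists_point f' x' hx' hx'k, DimSch.trdeg_eq_trd K']
  have hdim : ringKrullDim (X'.presheaf.stalk p') + DimSch.trd K' X' p' = d := by
    rw [← DimSch.localDim_eq K' p', DimSch.localDim_eq_of_irreducible K' p',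
      ← DimSch.topologicalKrullDim_eq_trd K', hd']
  have halg : Algebra.IsAlgebraic (Algebra.adjoin k (Set.range v)) K' := by
    rw [← IntermediateField.isAlgebraic_adjoin_iff_top]
    refine ⟨fun y => ?_⟩
    have hy : y ∈ IntermediateField.adjoin k (Set.range v) := by rw [hv]; trivial
    exact isAlgebraic_algebraMap (⟨y, hy⟩ : IntermediateField.adjoin k (Set.range v))
  have hK : Algebra.trdeg k K' ≤ (m : Cardinal) := by
    refine (Algebra.IsAlgebraic.trdeg_le_cardinalMk k (Set.range v)).trans ?_
    have := Cardinal.mk_range_le_lift (f := v)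
    simpa using this
  obtain ⟨c, hc⟩ := Cardinal.lt_aleph0.mp (hK.trans_lt (Cardinal.natCast_lt_aleph0))
  have hadd := trdeg_add_eq k K' (A := F)
  rw [hc, hF', hF] at hadd
  have hadd' : c + DimSch.trd K' X' p' = m + d := by exact_mod_cast hadd
  have hcm : c ≤ m := by rw [hc] at hK; exact_mod_cast hK
  have hle : DimSch.trd K' X' p' ≤ d := by
    have h1 : (0 : WithBot ℕ∞) ≤ ringKrullDim (X'.presheaf.stalk p') := ringKrullDim_nonneg_of_nontrivial
    have h2 : ((DimSch.trd K' X' p' : ℕ) : WithBot ℕ∞) ≤ (d : ℕ) := by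
      rw [← hdim]
      exact le_add_of_nonneg_left h1
    exact_mod_cast h2
  have hcm' : c = m := by omega
  have hed : DimSch.trd K' X' p' = d := by omega
  constructor
  · have h1 : Cardinal.lift.{u} (Cardinal.mk (Fin m)) ≤ Cardinal.lift.{0} (Algebra.trdeg k K') := by
      rw [hc, hcm']; simp
    exact (Algebra.IsAlgebraic.isTranscendenceBasis_of_lift_le_trdeg_of_finite k v h1).1
  · apply closure_eq_univ
    rw [hed] at hdim
    have hne : ringKrullDim (X'.presheaf.stalk p') ≠ ⊥ := fun h =>
      absurd (h ▸ (ringKrullDim_nonneg_of_nontrivial : 0 ≤ ringKrullDim (X'.presheaf.stalk p'))) (by simp)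
    obtain ⟨e, he⟩ := WithBot.ne_bot_iff_exists.mp hne
    rw [← he] at hdim ⊢
    have h3 : e + (d : ℕ∞) = (d : ℕ∞) := by exact_mod_cast hdim
    have h4 : e = 0 := by
      by_contra hne
      have h5 : (1 : ℕ∞) ≤ e := Order.one_le_iff_ne_zero.mpr hne
      have h6 : (1 : ℕ∞) + d ≤ d := by
        calc (1 : ℕ∞) + d ≤ e + d := by gcongr
          _ = d := h3
      have h7 : 1 + d ≤ d := by exact_mod_cast h6
      omega
    rw [h4]
    simp

theorem main : N9_count.{u} := by
  intro k K' F _ _ _ _ _ _ _ X _ x hx hxk hgen X' _ _ x' hx' hx'k m d v hv hd' hd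
  exact count X.hom x hx hxk hgen X'.hom x' hx' hx'k m d v hv hd' hd

end K17.TrCount
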