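import Groth.Agent.SGA3x.K197.RatNodes
import Mathlib.RingTheory.AlgebraicIndependent.AlgebraicClosure
import Mathlib.RingTheory.AlgebraicIndependent.TranscendenceBasis

/-!
# Towers of purely transcendental extensions
-/

set_option autoImplicit false
universe u

open K197.Rat

namespace K17.TrTower

variable {k K' F : Type u} [Field k] [Field K'] [Field F] [Algebra k K'] [Algebra K' F] [Algebra k F]
  [IsScalarTower k K' F]

/-- Generators of a tower. -/
theorem adjoin_eq_top {ι ι' : Type*} (v : ι → K') (w : ι' → F) (hv : IntermediateField.adjoin k (Set.range v) = ⊤)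
    (hw : IntermediateField.adjoin K' (Set.range w) = ⊤) :
    IntermediateField.adjoin k (Set.range (Sum.elim w (algebraMap K' F ∘ v))) = ⊤ := by
  set E := IntermediateField.adjoin k (Set.range (Sum.elim w (algebraMap K' F ∘ v))) with hE
  have h1 : ∀ x : K', algebraMap K' F x ∈ E := by
    intro x
    have hx : x ∈ IntermediateField.adjoin k (Set.range v) := by rw [hv]; trivial
    have h2 : IntermediateField.adjoin k (Set.range v) ≤ E.comap (IsScalarTower.toAlgHom k K' F) := by
      rw [IntermediateField.adjoin_le_iff]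
      rintro _ ⟨i, rfl⟩
      change algebraMap K' F (v i) ∈ E
      exact IntermediateField.subset_adjoin k _ ⟨Sum.inr i, rfl⟩
    exact h2 hx
  let E' : IntermediateField K' F := { E.toSubfield with algebraMap_mem' := h1 }
  have h3 : E' = ⊤ := by
    rw [eq_top_iff, ← hw, IntermediateField.adjoin_le_iff]
    rintro _ ⟨i, rfl⟩
    change w i ∈ E
    exact IntermediateField.subset_adjoin k _ ⟨Sum.inl i, rfl⟩
  rw [eq_top_iff]
  intro x _
  have h4 : x ∈ E' := by rw [h3]; trivial
  exact h4

theorem trans (h : PT k K') (h' : PT K' F) : PT k F := by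
  obtain ⟨n, v, hv, hv'⟩ := h
  obtain ⟨m, w, hw, hw'⟩ := h'
  refine ⟨m + n, Sum.elim w (algebraMap K' F ∘ v) ∘ finSumFinEquiv.symm, ?_, ?_⟩
  · exact (hv.sumElim_comp hw).comp _ finSumFinEquiv.symm.injective
  · rw [Set.range_comp, finSumFinEquiv.symm.surjective.range_eq, Set.image_univ]
    exact adjoin_eq_top v w hv' hw'

theorem main : N9_trans.{u} := by
  intro k K' F _ _ _ _ _ _ _ h h'
  exact trans h h'

end K17.TrTower
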