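import Groth.Agent.Sga3.H798.FpqcIso
import Groth.Prelude.Def_SGA3x

/-!
# Morphisms surjective on the geometric fibres are surjective
-/

set_option autoImplicit false

universe u

open CategoryTheory MonoidalCategory CartesianMonoidalCategory MonObj GrpObj AlgebraicGeometry Limits

namespace K17.Surj

variable {S S' : Scheme.{u}}

/-- every point is in the range of the geometric point attached to it -/
lemma mem_range_geomPt (s : S) : s ∈ Set.range (Red.geomPt s) := by
  have h1 : Set.range (Red.geomPt s) ⊆ {s} := by
    rw [← Scheme.range_fromSpecResidueField s]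
    rintro _ ⟨y, rfl⟩
    exact ⟨_, rfl⟩
  have y : Spec (CommRingCat.of (AlgebraicClosure (S.residueField s))) :=
    (IsLocalRing.closedPoint (AlgebraicClosure (S.residueField s)) :
      PrimeSpectrum (AlgebraicClosure (S.residueField s)))
  exact ⟨y, h1 ⟨y, rfl⟩⟩

/-- a morphism which is surjective on the geometric fibres is surjective -/
theorem surjective_of_geomFibres {G G' : Over S} (u : G ⟶ G')
    (hu : ∀ s : S, Surjective ((Over.pullback (Red.geomPt s)).map u).left) : Surjective u.left := by
  refine ⟨fun y => ?_⟩
  obtain ⟨t, ht⟩ := mem_range_geomPt (G'.hom y)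
  obtain ⟨z, hz1, hz2⟩ := Scheme.Pullback.exists_preimage_pullback (f := G'.hom)
    (g := Red.geomPt (G'.hom y)) y t ht.symm
  obtain ⟨w, hw⟩ := (hu (G'.hom y)).surj z
  have hpb := Groth.Agent.Sga3.H798.FpqcIso.isPullback_map_left (Red.geomPt (G'.hom y)) u
  refine ⟨pullback.fst G.hom (Red.geomPt (G'.hom y)) w, ?_⟩
  rw [← Scheme.Hom.comp_apply, hpb.w, Scheme.Hom.comp_apply, hw, hz1]

/-- surjectivity on geometric fibres is stable under base change -/
theorem surjective_geomFibre_bc {G G' : Over S} (u : G ⟶ G')
    (hu : ∀ s : S, Surjective ((Over.pullback (Red.geomPt s)).map u).left) (f : S' ⟶ S) (s' : S') :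
    Surjective ((Over.pullback (Red.geomPt s')).map ((Over.pullback f).map u)).left := by
  have h0 := surjective_of_geomFibres u hu
  have h1 : Surjective ((Over.pullback f).map u).left :=
    MorphismProperty.of_isPullback (P := @Surjective)
      (Groth.Agent.Sga3.H798.FpqcIso.isPullback_map_left f u) h0
  exact MorphismProperty.of_isPullback (P := @Surjective)
      (Groth.Agent.Sga3.H798.FpqcIso.isPullback_map_left (Red.geomPt s') _) h1

end K17.Surj
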