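import Groth.Prelude.Def_SGA3x

/-!
# Surjective open morphisms satisfy the fpqc covering condition
-/

set_option autoImplicit false

universe u

open CategoryTheory AlgebraicGeometry TopologicalSpace

namespace K17.FpqcOpen

variable {S S' : Scheme.{u}}

/-- every affine open of `S` is the image of a quasi-compact open of `S'` -/
theorem fpqc_of_open (f : S' ⟶ S) [Surjective f] (hop : IsOpenMap f.base) (V : S.Opens) (hV : IsAffineOpen V) :
    ∃ W : S'.Opens, IsCompact (W : Set S') ∧ f.base '' (W : Set S') = (V : Set S) := by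
  have h1 : ∀ x : (V : Set S), ∃ W : S'.Opens, IsAffineOpen W ∧ W ≤ f ⁻¹ᵁ V ∧ x.1 ∈ f.base '' (W : Set S') := by
    rintro ⟨x, hx⟩
    obtain ⟨y, hy⟩ := f.surjective x
    have hy' : y ∈ f ⁻¹ᵁ V := by
      change f.base y ∈ V
      exact hy ▸ hx
    obtain ⟨_, ⟨W, hW, rfl⟩, hyW, hWV⟩ :=
      S'.isBasis_affineOpens.exists_subset_of_mem_open hy' (f ⁻¹ᵁ V).2
    exact ⟨W, hW, hWV, y, hyW, hy⟩
  choose W hWa hWV hWx using h1
  obtain ⟨t, ht⟩ := hV.isCompact.elim_finite_subcover (fun x : (V : Set S) => f.base '' (W x : Set S'))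
    (fun x => hop _ (W x).2) (fun x hx => Set.mem_iUnion.2 ⟨⟨x, hx⟩, hWx ⟨x, hx⟩⟩)
  refine ⟨⨆ x ∈ t, W x, ?_, ?_⟩
  · have : ((⨆ x ∈ t, W x : S'.Opens) : Set S') = ⋃ x ∈ t, (W x : Set S') := by
      simp
    rw [this]
    exact t.isCompact_biUnion fun x _ => (hWa x).isCompact
  · have : ((⨆ x ∈ t, W x : S'.Opens) : Set S') = ⋃ x ∈ t, (W x : Set S') := by
      simp
    rw [this]
    apply Set.Subset.antisymm
    · rintro _ ⟨y, hy, rfl⟩
      simp only [Set.mem_iUnion] at hy
      obtain ⟨x, -, hy⟩ := hy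
      exact hWV x hy
    · intro x hx
      have := ht hx
      simp only [Set.mem_iUnion] at this
      obtain ⟨z, hz, y, hy, rfl⟩ := this
      exact ⟨y, by simp only [Set.mem_iUnion]; exact ⟨z, hz, hy⟩, rfl⟩

/-- flat surjective morphisms locally of finite presentation satisfy the fpqc covering condition -/
theorem fpqc_of_flat (f : S' ⟶ S) [Flat f] [LocallyOfFinitePresentation f] [Surjective f]
    (V : S.Opens) (hV : IsAffineOpen V) :
    ∃ W : S'.Opens, IsCompact (W : Set S') ∧ f.base '' (W : Set S') = (V : Set S) :=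
  fpqc_of_open f f.isOpenMap V hV

end K17.FpqcOpen
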