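import Groth.Agent.S4120
import Groth.Agent.Sga3.H799.Bc
import Groth.Agent.Sga3.H799.DescSub
import Groth.Agent.Sga3.H799.Cart
import Groth.Agent.Sga3.H801.Compat
import Groth.Agent.Sga3.H803.CentPt
import Groth.Agent.Sga3B.MaxTorNear900
import Groth.Agent.SGA3x.K17.Lift
import Groth.Agent.SGA3x.K17.FpqcOpen

/-!
# Lifting maximal tori along a homomorphism with central kernel

`u : G ⟶ G'` with central kernel, `i' : T' ⟶ G'` a maximal torus.

* `exists_factor` : two maximal tori of `G` mapping to `T'` agree.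
* `Dat u i'` : locally for the fppf topology on the base there is a maximal torus of `G` mapping to `T'`.
* `dat_of_bc`, `dat_of_conj` : ways to obtain such data.
* `exists_of_dat` : descent: then there is such a torus.
-/

set_option autoImplicit false

universe u

open CategoryTheory MonoidalCategory CartesianMonoidalCategory MonObj GrpObj AlgebraicGeometry Limits

namespace K17.TorusLift

open Groth.Agent Groth.Agent.Sga3B Groth.Agent.Sga3B.DSPts Groth.Agent.Sga3B.RedIso Groth.Agent.Sga3B.BcNat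
  Groth.Agent.Sga3.H803.CentPt

variable {S : Scheme.{u}} {G G' T' : Over S} [GrpObj G] [GrpObj G'] [GrpObj T']

/-- Tori of `G` mapping into the same torus of `G'` commute if the kernel is central. -/
theorem commute {T₁ T₂ : Over S} [GrpObj T₁] [GrpObj T₂] [IsSeparated G.hom] [LocallyOfFiniteType G.hom]
    (u : G ⟶ G') [IsMonHom u] (hq : ∀ (X : Over S) (z g : X ⟶ G), z ≫ u = 1 → z * g = g * z)
    (i₁ : T₁ ⟶ G) [IsMonHom i₁] (i₂ : T₂ ⟶ G) [IsMonHom i₂] (h₁ : Red.IsTorus T₁) (h₂ : Red.IsTorus T₂)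
    (i' : T' ⟶ G') [IsMonHom i'] (hT' : Red.IsTorus T') (v₁ : T₁ ⟶ T') (v₂ : T₂ ⟶ T')
    (e₁ : v₁ ≫ i' = i₁ ≫ u) (e₂ : v₂ ≫ i' = i₂ ≫ u) (X : Over S) (t : X ⟶ T₁) (r : X ⟶ T₂) :
    (t ≫ i₁) * (r ≫ i₂) = (r ≫ i₂) * (t ≫ i₁) := by
  refine Sga3.H801.CentralComm.commute_of_central u hq i₁ i₂ h₁ h₂ ?_ X t r
  intro X t r
  rw [← e₁, ← e₂, ← Category.assoc, ← Category.assoc, ← MonObj.mul_comp, ← MonObj.mul_comp,
    MaxTorNear900.mul_comm_of_isTorus hT']

/-- **Uniqueness.** -/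
theorem exists_factor {T₁ T₂ : Over S} [GrpObj T₁] [GrpObj T₂] [IsSeparated G.hom]
    [LocallyOfFinitePresentation G.hom] [QuasiCompact G.hom]
    (u : G ⟶ G') [IsMonHom u] (hq : ∀ (X : Over S) (z g : X ⟶ G), z ≫ u = 1 → z * g = g * z)
    (i₁ : T₁ ⟶ G) (i₂ : T₂ ⟶ G) (h₁ : Red.IsMaximalTorus i₁) (h₂ : Red.IsMaximalTorus i₂)
    (i' : T' ⟶ G') [IsMonHom i'] (hT' : Red.IsTorus T') (v₁ : T₁ ⟶ T') (v₂ : T₂ ⟶ T')
    (e₁ : v₁ ≫ i' = i₁ ≫ u) (e₂ : v₂ ≫ i' = i₂ ≫ u) : ∃ f : T₂ ⟶ T₁, f ≫ i₁ = i₂ := by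
  have := h₁.1
  have := h₂.1
  have := h₂.2.1
  exact S4120.result S G T₁ T₂ i₁ i₂ h₁ h₂.2.2.1
    (commute u hq i₁ i₂ h₁.2.2.1 h₂.2.2.1 i' hT' v₁ v₂ e₁ e₂)

/-- **Uniqueness**, as an isomorphism. -/
theorem exists_iso {T₁ T₂ : Over S} [GrpObj T₁] [GrpObj T₂] [IsSeparated G.hom]
    [LocallyOfFinitePresentation G.hom] [QuasiCompact G.hom]
    (u : G ⟶ G') [IsMonHom u] (hq : ∀ (X : Over S) (z g : X ⟶ G), z ≫ u = 1 → z * g = g * z)
    (i₁ : T₁ ⟶ G) (i₂ : T₂ ⟶ G) (h₁ : Red.IsMaximalTorus i₁) (h₂ : Red.IsMaximalTorus i₂)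
    (i' : T' ⟶ G') [IsMonHom i'] (hT' : Red.IsTorus T') (v₁ : T₁ ⟶ T') (v₂ : T₂ ⟶ T')
    (e₁ : v₁ ≫ i' = i₁ ≫ u) (e₂ : v₂ ≫ i' = i₂ ≫ u) : ∃ φ : T₁ ≅ T₂, φ.hom ≫ i₂ = i₁ := by
  obtain ⟨f, hf⟩ := exists_factor u hq i₁ i₂ h₁ h₂ i' hT' v₁ v₂ e₁ e₂
  obtain ⟨g, hg⟩ := exists_factor u hq i₂ i₁ h₂ h₁ i' hT' v₂ v₁ e₂ e₁
  have := h₁.2.1
  have := h₂.2.1
  refine ⟨⟨g, f, ?_, ?_⟩, hg⟩
  · rw [← cancel_mono i₁, Category.assoc, hf, hg, Category.id_comp]
  · rw [← cancel_mono i₂, Category.assoc, hg, hf, Category.id_comp]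

/-- Locally for the fppf topology on `S`, there is a maximal torus of `G` mapping to `i'`. -/
def Dat (u : G ⟶ G') (i' : T' ⟶ G') : Prop :=
  ∃ (S' : Scheme.{u}) (f : S' ⟶ S) (_ : Flat f) (_ : LocallyOfFinitePresentation f) (_ : Surjective f)
    (T : Over S') (_ : GrpObj T) (t : T ⟶ Red.bc f G) (w : T ⟶ Red.bc f T'), Red.IsMaximalTorus t ∧
      w ≫ (Over.pullback f).map i' = t ≫ (Over.pullback f).map u

theorem dat_of_bc {S₁ : Scheme.{u}} (g : S₁ ⟶ S) [Flat g] [LocallyOfFinitePresentation g] [Surjective g]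
    (u : G ⟶ G') (i' : T' ⟶ G')
    (h : Dat ((Over.pullback g).map u) ((Over.pullback g).map i')) : Dat u i' := by
  obtain ⟨S', f, _, _, _, T, _, t, w, ht, hw⟩ := h
  refine ⟨S', f ≫ g, inferInstance, inferInstance, inferInstance, T, inferInstance,
    t ≫ (und (BcIso.bcCompIso f g G)).inv, w ≫ (und (BcIso.bcCompIso f g T')).inv, ?_, ?_⟩
  · exact AlgBc.isMaximalTorus_of_arrow (Iso.refl _) (BcIso.bcCompIso f g G).symm
      (Category.id_comp _).symm ht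
  · rw [Category.assoc, comp_nat_inv, ← Category.assoc, hw, Category.assoc, Category.assoc, comp_nat_inv]

omit [GrpObj T'] in
/-- The datum coming from a maximal torus `T₁` of `G` whose image is conjugate to `T'`. -/
theorem dat_of_conj [LocallyOfFiniteType G.hom] (u : G ⟶ G') [IsMonHom u] [Flat u.left]
    [LocallyOfFinitePresentation u.left] [Surjective u.left] (i' : T' ⟶ G')
    {T₁ T₁' : Over S} [GrpObj T₁] [GrpObj T₁'] (i₁ : T₁ ⟶ G) (h₁ : Red.IsMaximalTorus i₁) (v₁ : T₁ ⟶ T₁')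
    (i₁' : T₁' ⟶ G') (e₁ : v₁ ≫ i₁' = i₁ ≫ u) (g' : 𝟙_ (Over S) ⟶ G') (hc : SGA3x.ConjBy i₁' i' g') :
    Dat u i' := by
  obtain ⟨φ, hφ⟩ := hc
  obtain ⟨X', p, γ, hp1, hp2, -, hγ, hpb⟩ := K17.Lift.exists_lift u g'
  have hp3 : LocallyOfFinitePresentation p.left :=
    MorphismProperty.of_isPullback (P := @LocallyOfFinitePresentation) hpb.flip ‹_›
  have hX : X'.hom = p.left := by
    rw [← Over.w p]
    exact Category.comp_id _
  have i1 : Flat X'.hom := by rw [hX]; infer_instance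
  have i2 : LocallyOfFinitePresentation X'.hom := by rw [hX]; infer_instance
  have i3 : Surjective X'.hom := by rw [hX]; infer_instance
  let γ₀ : Over.mk X'.hom ⟶ G := γ
  let p₀ : Over.mk X'.hom ⟶ 𝟙_ (Over S) := p
  have hγ₀ : γ₀ ≫ u = p₀ ≫ g' := hγ
  refine ⟨X'.left, X'.hom, i1, i2, i3, Red.bc X'.hom T₁, inferInstance,
    (Over.pullback X'.hom).map i₁ ≫ conj (secOf γ₀), (Over.pullback X'.hom).map (v₁ ≫ φ.hom),
    isMaximalTorus_conj _ _ (Sga3.H799.Bc.isMaximalTorus_bc X'.hom h₁), ?_⟩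
  apply (bcEquiv X'.hom _ G').symm.injective
  have hsymm : ∀ {A B : Over S} [GrpObj A] [GrpObj B] {X : Over X'.left} (x : X ⟶ Red.bc X'.hom A) (a : A ⟶ B),
      (bcEquiv X'.hom X B).symm (x ≫ (Over.pullback X'.hom).map a) = (bcEquiv X'.hom X A).symm x ≫ a := by
    intro A B _ _ X x a
    apply (bcEquiv X'.hom X B).injective
    rw [MulEquiv.apply_symm_apply, ← bcEquiv_comp, MulEquiv.apply_symm_apply]
  let a : (Over.map X'.hom).obj (Red.bc X'.hom T₁) ⟶ T₁ := (bcEquiv X'.hom _ T₁).symm (𝟙 _)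
  have ha : ∀ {B : Over S} [GrpObj B] (m : T₁ ⟶ B),
      (bcEquiv X'.hom _ B).symm ((Over.pullback X'.hom).map m) = a ≫ m := by
    intro B _ m
    have := hsymm (𝟙 (Red.bc X'.hom T₁)) m
    rwa [Category.id_comp] at this
  rw [← Functor.map_comp, ha, hsymm, comp_conj, map_mul, map_mul, map_inv, ha, bcEquiv_symm_secOf,
    MonObj.mul_comp, MonObj.mul_comp, GrpObj.inv_comp, Category.assoc, Category.assoc, Category.assoc, hγ₀]
  have e3 : (Over.homMk (Red.bc X'.hom T₁).hom (by rfl) : (Over.map X'.hom).obj (Red.bc X'.hom T₁) ⟶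
      Over.mk X'.hom) ≫ p₀ ≫ g' = toUnit _ ≫ g' := by
    rw [← Category.assoc]
    congr 1
    exact toUnit_unique _ _
  rw [e3, ← hφ, MonObj.comp_mul, MonObj.comp_mul, GrpObj.comp_inv,
    MonObj.comp_mul, MonObj.comp_mul, GrpObj.comp_inv, e₁]
  simp only [← Category.assoc, comp_toUnit]

/-- **Existence, by descent.** -/
theorem exists_of_dat [LocallyOfFinitePresentation G.hom] [IsSeparated G.hom] [QuasiCompact G.hom]
    (u : G ⟶ G') [IsMonHom u] (hq : ∀ (X : Over S) (z g : X ⟶ G), z ≫ u = 1 → z * g = g * z)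
    (i' : T' ⟶ G') [IsMonHom i'] (hT' : Red.IsTorus T') (h : Dat u i') :
    ∃ (T : Over S) (_ : GrpObj T) (i : T ⟶ G), Red.IsMaximalTorus i ∧
      ∀ (X : Over S) (t : X ⟶ T) (r : X ⟶ T'), (t ≫ i ≫ u) * (r ≫ i') = (r ≫ i') * (t ≫ i ≫ u) := by
  obtain ⟨S', f, hf1, hf2, hf3, T, _, t, w, ht, hw⟩ := h
  have hfc := K17.FpqcOpen.fpqc_of_flat f
  have h1 := ht.1
  have h2 := ht.2.1
  have hC := MaxTorNear900.mul_comm_of_isTorus hT'
  have hcompat : Sga3.H799.DescSub.Compat t := fun X a b g hg =>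
    Sga3.H801.Compat.memAt_of_memAt u hq i' (fun Z x y => hC Z x y) t ht.2.2.1 w hw
      (fun L _ _ σ => Sga3.H799.Bc.isMaximalTorus_bc σ ht) X a b g hg
  have haff : IsAffineHom T.hom := TorusAlgClosed.isAffineHom_of_isTorus ht.2.2.1
  obtain ⟨P, _, p, hp1, hp2, -, e, he⟩ :=
    Sga3.H799.DescSub.exists_subgroup hcompat hfc ⟨inferInstance, fun O hO => by
      have : IsAffine (T.hom ⁻¹ᵁ O : Scheme.{u}) := hO.preimage T.hom
      infer_instance⟩
  have hmax : Red.IsMaximalTorus ((Over.pullback f).map p) := by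
    refine AlgBc.isMaximalTorus_of_arrow e (Iso.refl _) ?_ ht
    rw [he]
    exact Category.comp_id _
  refine ⟨P, inferInstance, p, ?_, ?_⟩
  · refine Sga3.H799.Bc.isMaximalTorus_of_points inferInstance inferInstance
      (AlgBc.isTorus_of_bc f hfc hmax.2.2.1) fun s => ?_
    obtain ⟨s', rfl⟩ := f.surjective s
    refine ⟨_, inferInstance, inferInstance, Red.geomPt s' ≫ f, ?_, ?_⟩
    · exact (Scheme.Hom.comp_apply _ _ _).trans (congrArg f (Sga3.H799.Cart.geomPt_closedPoint s'))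
    · rw [Sga3.H799.Bc.isMaximalTorus_comp_iff]
      exact Sga3.H799.Bc.isMaximalTorus_bc _ hmax
  · intro X a r
    apply MaxTorNear900.eq_of_bc f
    rw [Functor.map_mul, Functor.map_mul, Functor.map_comp, Functor.map_comp, Functor.map_comp]
    have e1 : (Over.pullback f).map p ≫ (Over.pullback f).map u =
        ((und e).inv ≫ w) ≫ (Over.pullback f).map i' := by
      rw [Category.assoc, hw, ← he, Category.assoc, Iso.inv_hom_id_assoc]
    rw [e1, ← Category.assoc, ← MonObj.mul_comp, ← MonObj.mul_comp,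
      MaxTorNear900.mul_comm_of_isTorus (TorusBc.isTorus_bc f hT')]

end K17.TorusLift
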