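import Groth.Agent.S4121
import Groth.Agent.S8429
import Groth.Agent.SGA3x.K18.CentQuot
import Groth.Agent.SGA3x.K16.PreimMain
import Groth.Agent.SGA3x.K15.CentUniq
import Groth.Agent.Sga3.H831.CartConn
import Groth.Agent.Sga3.H794.ChevClosed

/-!
# The inverse image of a Cartan subgroup under a homomorphism with central kernel

Over an algebraically closed field, `u : G ⟶ G'` surjective with central kernel, `G` smooth and connected: the inverse
image of a Cartan subgroup of `G'` is a Cartan subgroup of `G`; it is smooth and connected.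
-/

set_option autoImplicit false
universe u
open CategoryTheory MonoidalCategory CartesianMonoidalCategory MonObj GrpObj AlgebraicGeometry Limits

namespace K17.CartPre

open Groth.Agent

variable {K : Type u} [Field K] [IsAlgClosed K]

/-- Centralizers of tori are connected. -/
theorem connectedSpace_centralizer {G T C : Over (Spec (CommRingCat.of K))} [GrpObj G] [GrpObj T] [GrpObj C]
    [Smooth G.hom] [QuasiCompact G.hom] [ConnectedSpace G.left] (i : T ⟶ G) [IsMonHom i]
    [Mono i] (hT : Red.IsTorus T) {c : C ⟶ G} (hc : Red.IsCentralizerOf i c) : ConnectedSpace C.left := by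
  obtain ⟨L, _, l, A, _, q, h1, h2, h3, h4, h5, h6, h7, h8, h9, h10, h11, h12, h13⟩ :=
    Sga3.H794.ChevClosed.exists_chevalley K G
  exact Sga3.H831.CartConn.connectedSpace_of i hT hc l q h10

/-- The identity base change is an fpqc covering. -/
theorem hasMaxTorus {S : Scheme.{u}} {G T : Over S} [GrpObj G] [GrpObj T] [LocallyOfFiniteType G.hom]
    (i : T ⟶ G) (hi : Red.IsMaximalTorus i) :
    SGA3x.HasMaxTorusFpqcLocally G := by
  refine ⟨S, 𝟙 S, inferInstance, inferInstance, fun V hV => ⟨V, hV.isCompact, ?_⟩,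
    Red.bc (𝟙 S) T, inferInstance, _, Sga3.H799.Bc.isMaximalTorus_bc (𝟙 S) hi⟩
  ext x
  simp

theorem exists_cartan {G G' C' : Over (Spec (CommRingCat.of K))} [GrpObj G] [GrpObj G'] [GrpObj C']
    [Smooth G.hom] [QuasiCompact G.hom] [ConnectedSpace G.left] [Smooth G'.hom] [QuasiCompact G'.hom]
    (u : G ⟶ G') [IsMonHom u] [Surjective u.left]
    (hq : ∀ (X : Over (Spec (CommRingCat.of K))) (z g : X ⟶ G), z ≫ u = 1 → z * g = g * z) (c' : C' ⟶ G')
    (hc' : SGA3x.IsCartanOver K c') :
    ∃ (_ : GrpObj (pullback c' u)), SGA3x.IsCartanOver K (pullback.snd c' u) ∧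
      Smooth (pullback c' u).hom ∧ ConnectedSpace (pullback c' u).left := by
  obtain ⟨hm, hmono, T', _, i', hi', hcent⟩ := hc'
  have hGsep : IsSeparated G.hom := Groth.Agent.Localalg.GrpSchComp2.isSeparated_hom G
  have hGsep' : IsSeparated G'.hom := Groth.Agent.Localalg.GrpSchComp2.isSeparated_hom G'
  obtain ⟨T₀, _, i₀, hi₀⟩ := S4121.result K G
  obtain ⟨T, _, i, v, hi, hvm, hv, hvs, hvf⟩ := (S8429.result _ G G' (hasMaxTorus i₀ hi₀) u (fun s =>
    MorphismProperty.of_isPullback (P := @Surjective)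
      (Groth.Agent.Sga3.H798.FpqcIso.isPullback_map_left (Red.geomPt s) u) ‹_›) (fun X z hz X' x g =>
        hq X' (x ≫ z) g (by rw [Category.assoc, hz, MonObj.comp_one]))).1 T' i' hi'
  have him := hi.1
  have himono := hi.2.1
  have him' := hi'.1
  obtain ⟨grp, m1, m2⟩ := K16.PreimMain.exists_grp u c'
  obtain ⟨hs', hcl', -⟩ := K15.CentUniq.smooth_and_closed hi'.2.2.1 hcent
  have sq : IsPullback (pullback.snd c' u) (pullback.fst c' u) u c' := (IsPullback.of_hasPullback c' u).flip
  have hcent2 : Red.IsCentralizerOf i (pullback.snd c' u) :=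
    K18.CentQuot.isCentralizerOf u hq i hi.2.2.1 i' v hv c' hcent _ _ sq
  have hs := (K15.CentUniq.smooth_and_closed hi.2.2.1 hcent2).1
  have hconn := connectedSpace_centralizer i hi.2.2.1 hcent2
  exact ⟨grp, ⟨m2, hcent2.2.1, T, inferInstance, i, hi, hcent2⟩, hs, hconn⟩

end K17.CartPre
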