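import Groth.Agent.SGA3x.K7.ConjGlobal

/-!
# Correcting lifts of homomorphisms out of groups of multiplicative type

`G` an arbitrary group scheme over `Spec R`, `J` an ideal of square zero, `H` a group of multiplicative type: if a morphism
of schemes `φ : H ⟶ G` is a homomorphism modulo `J`, there is a homomorphism `u : H ⟶ G` which is equal to `φ` modulo `J`.
-/

set_option autoImplicit false
universe u
open CategoryTheory MonoidalCategory CartesianMonoidalCategory MonObj AlgebraicGeometry Limits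
open scoped TensorProduct

namespace K17.HaarLift
open Groth.Agent.Sga3B Groth.Agent.Sga3B.InfConj Groth.Agent.Sga3.H802.HaarPts Groth.Agent.Sga3.H802.HaarHom
open Groth.Agent.Sga3.H802.HomFam K7
open Groth.Agent.Books.AffBridge Groth.Agent.Sga3B.AffPts
open Groth.Agent.Sga3B.HaarDef hiding exists_conj_abstract exists_hom_abstract

local notation "cst" => Groth.Agent.Sga3B.HaarDef.«ι»

variable {R : Type u} [CommRing R]

section

variable {D : Type u} [CommRing D] [Bialgebra R D]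
variable {G : Over (Spec (CommRingCat.of R))} [GrpObj G]
variable {X Y : Type u} [CommRing X] [Algebra R X] [CommRing Y] [Algebra R Y]

/-- **Correcting a lift** (`H² = 0`): `G` any group scheme, `φ` a lift, as a morphism of schemes, of a homomorphism;
then the homomorphism lifts. -/
theorem exists_lift_of_pt (ν : Haar R D) {π : X →ₐ[R] Y}
    (hπ : Function.Surjective π) (hK : (RingHom.ker π) ^ 2 = ⊥) {F₀ : pt R (D ⊗[R] Y) ⟶ G}
    (hF₀ : IsHomPt F₀) (φ : pt R (D ⊗[R] X) ⟶ G) (hφ : ptMap (T D π) ≫ φ = F₀) :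
    ∃ F : pt R (D ⊗[R] X) ⟶ G, IsHomPt F ∧ ptMap (T D π) ≫ F = F₀ := by
  have hK1 : (RingHom.ker (T D π)) ^ 2 = ⊥ := ker_T_sq hπ hK
  have hTs : Function.Surjective (T D π) := T_surjective hπ
  have hTTs : Function.Surjective (T D (T D π)) := T_surjective hTs
  have hK2 : (RingHom.ker (T D (T D π))) ^ 2 = ⊥ := ker_T_sq hTs hK1
  have hc1 : ptMap (T D (T D π)) ≫ ((ptMap (δ R D X) ≫ φ)⁻¹ * (ptMap (T D (cst R D X)) ≫ φ) *
      (ptMap (cst R D (D ⊗[R] X)) ≫ φ)) = 1 := by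
    have h1 : ptMap (T D (T D π)) ≫ (ptMap (T D (cst R D X)) ≫ φ) = ptMap (T D (cst R D Y)) ≫ F₀ := by
      rw [← hφ, ← Category.assoc, ← Category.assoc, ptMap_comp, ptMap_comp, T_comp, T_comp_ι, ← T_comp]
    have h2 : ptMap (T D (T D π)) ≫ (ptMap (cst R D (D ⊗[R] X)) ≫ φ) = ptMap (cst R D (D ⊗[R] Y)) ≫ F₀ := by
      rw [← hφ, ← Category.assoc, ← Category.assoc, ptMap_comp, ptMap_comp, T_comp_ι]
    have h3 : ptMap (T D (T D π)) ≫ (ptMap (δ R D X) ≫ φ) = ptMap (δ R D Y) ≫ F₀ := by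
      rw [← hφ, ← Category.assoc, ← Category.assoc, ptMap_comp, ptMap_comp, δ_comp_T]
    rw [MonObj.comp_mul, MonObj.comp_mul, GrpObj.comp_inv, h1, h2, h3, ← hF₀, _root_.mul_assoc, inv_mul_cancel]
  have t1 : ∀ x, T D (T D (T D π)) (T D (δ R D X) x) = T D (δ R D Y) (T D (T D π) x) := by
    intro x
    have := AlgHom.congr_fun (show (T D (T D (T D π))).comp (T D (δ R D X)) =
      (T D (δ R D Y)).comp (T D (T D π)) by rw [T_comp, T_comp, δ_comp_T]) x
    exact this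
  have t3 : ∀ x, T D (T D (T D π)) (δ R D (D ⊗[R] X) x) = δ R D (D ⊗[R] Y) (T D (T D π) x) := by
    intro x
    exact (AlgHom.congr_fun (δ_comp_T (T D π)) x).symm
  have t4 : ∀ x, T D (T D (T D π)) (T D (T D (cst R D X)) x) = T D (T D (cst R D Y)) (T D (T D π) x) := by
    intro x
    have := AlgHom.congr_fun (show (T D (T D (T D π))).comp (T D (T D (cst R D X))) =
      (T D (T D (cst R D Y))).comp (T D (T D π)) by rw [T_comp, T_comp, T_comp, T_comp, T_comp_ι]) x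
    exact this
  obtain ⟨b, hb1, hb2⟩ := K7.AvgGen.exists_hom_abstract (haarAvg ν (T D π) hTs hK1)
    (haarAvg ν (T D (T D π)) hTTs hK2) (T D (cst R D X)) (cst R D (D ⊗[R] X)) (δ R D X)
    (T D (δ R D X)) (δ R D (D ⊗[R] X)) (T D (T D (cst R D X)))
    δ_coassoc (by rw [T_comp, T_comp, δ_comp_ι, T_comp_ι]) (by rw [T_comp_ι]; rfl)
    (by rw [δ_comp_T]) (by rw [δ_comp_ι]; rfl) (by rw [T_comp_ι]; rfl)
    (fun x => AlgHom.congr_fun (T_comp_ι (D := D) (δ R D X)) x)
    (fun x => AlgHom.congr_fun (δ_comp_ι (R := R) (D := D) (X := D ⊗[R] X)) x)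
    (fun x => AlgHom.congr_fun (T_comp_ι (D := D) (T D (cst R D X))) x)
    (fun x => ν.J_comp_T _ x) (fun x => ν.J_comp_δ x) (fun x => ν.J_comp_T _ x)
    (fun x hx => by
      rw [RingHom.mem_ker] at hx ⊢
      rw [t1, hx, map_zero])
    (fun x hx => by
      rw [RingHom.mem_ker] at hx ⊢
      rw [t3, hx, map_zero])
    (fun x hx => by
      rw [RingHom.mem_ker] at hx ⊢
      rw [t4, hx, map_zero])
    φ (isInf_of_map _ hTTs hc1)
  refine ⟨φ * b, hb2, ?_⟩
  rw [MonObj.comp_mul, hφ, hb1.map_eq_one (T D π) (fun k hk => hk), _root_.mul_one]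


variable {E : Over (Spec (CommRingCat.of R))} [GrpObj E] (e : E ≅ pt R D) (he : IsModel e)

include he in
/-- The same for families. -/
theorem exists_lift_family_of (ν : Haar R D) {π : X →ₐ[R] Y} (hπ : Function.Surjective π)
    (hK : (RingHom.ker π) ^ 2 = ⊥) (φ : E ⊗ pt R X ⟶ G) (h₀ : AutFam.IsHomFamily E G ((E ◁ ptMap π) ≫ φ)) :
    ∃ a : E ⊗ pt R X ⟶ G, AutFam.IsHomFamily E G a ∧ (E ◁ ptMap π) ≫ a = (E ◁ ptMap π) ≫ φ := by
  obtain ⟨F, hF, hF'⟩ := exists_lift_of_pt ν hπ hK ((isHomPt_toPt_iff e he _).mpr h₀) (toPt e φ) (toPt_pull e φ π).symm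
  refine ⟨famOf e F, (isHomFamily_famOf_iff e he F).mpr hF, toPt_injective e ?_⟩
  rw [toPt_pull, toPt_famOf, hF']

end

variable {H G : Over (Spec (CommRingCat.of R))} [GrpObj H] [GrpObj G]

theorem exists_hom {J : Ideal R} (hJ : J ^ 2 = ⊥) (hH : MTHaar.IsMT H) (φ : H ⟶ G)
    (h0 : ∀ (X : Over (Spec (CommRingCat.of R))) (_ : X ⟶ pt R (R ⧸ J)) (a b : X ⟶ H),
      (a * b) ≫ φ = (a ≫ φ) * (b ≫ φ)) :
    ∃ v : H ⟶ G, IsMonHom v ∧ ∀ (X : Over (Spec (CommRingCat.of R))) (_ : X ⟶ pt R (R ⧸ J)) (a : X ⟶ H),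
      a ≫ v = a ≫ φ := by
  obtain ⟨A, _, _, e, he, l, hl⟩ := MTHaar.exists_model hH
  obtain ⟨a, ha, ha'⟩ := exists_lift_family_of (G := G) (X := R) (Y := R ⧸ J) (e : H ≅ pt R A)
    (isModel_of_isMonHom e) (IntDesc.haarOfIsInt hl) (π := Ideal.Quotient.mkₐ R J) (Ideal.Quotient.mkₐ_surjective R J)
    (by rw [show RingHom.ker (Ideal.Quotient.mkₐ R J) = J from Ideal.mk_ker, hJ])
    (fst H _ ≫ φ) (by
      intro W t₁ t₂ s
      simp only [← Category.assoc, lift_whiskerLeft, lift_fst]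
      exact h0 W s t₁ t₂)
  refine ⟨lift (𝟙 H) (toUnit H ≫ ConjGlobal.topPt R) ≫ a, ?_, fun X p t => ?_⟩
  · refine Groth.Agent.Sga3B.IsoFam.isMonHom_of_mul _ fun W x y => ?_
    have h1 := ha W x y (toUnit W ≫ ConjGlobal.topPt R)
    have h2 : ∀ z : W ⟶ H, z ≫ lift (𝟙 H) (toUnit H ≫ ConjGlobal.topPt R) = lift z (toUnit W ≫ ConjGlobal.topPt R) := by
      intro z
      rw [comp_lift, Category.comp_id, ← Category.assoc, toUnit_unique (z ≫ toUnit H) (toUnit W)]
    rw [← Category.assoc, ← Category.assoc, ← Category.assoc, h2, h2, h2]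
    exact h1
  · have h1 := congrArg (fun z => lift t p ≫ z) ha'
    simp only [← Category.assoc, lift_whiskerLeft, lift_fst] at h1
    rw [← h1, ← Category.assoc, comp_lift, Category.comp_id]
    congr 2
    exact ConjGlobal.pt_ext _ _

end K17.HaarLift
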