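import Groth.Agent.S1302
import Groth.Agent.S1315
import Groth.Agent.S1316
import Groth.Agent.SGA7.K565.Thick
import Groth.Agent.Flat2C.Thick
import Groth.Agent.Flat2H.FSSmoothHom
import Groth.Agent.Sga3B.Parab.FibIsoSch
import Groth.Agent.CAlg.K87.NilFlat
import Groth.Agent.Sga3B.BcPts

/-!
# Lifting along a nilpotent ideal: isomorphisms, monomorphisms, immersions, smooth targets

`J` a nilpotent ideal of `A`, `cl J : Spec (A / J) → Spec A`.
-/

set_option autoImplicit false
universe u
open CategoryTheory MonoidalCategory CartesianMonoidalCategory MonObj GrpObj AlgebraicGeometry Limits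
open scoped TensorProduct

namespace K17.NilLift

open Groth.Agent

variable {A : Type u} [CommRing A] {J : Ideal A} (hJ : IsNilpotent J)

/-- the closed immersion `Spec (A / J) → Spec A` -/
noncomputable abbrev cl {A : Type u} [CommRing A] (J : Ideal A) :
    Spec (CommRingCat.of (A ⧸ J)) ⟶ Spec (CommRingCat.of A) :=
  Spec.map (CommRingCat.ofHom (Ideal.Quotient.mk J))

include hJ in
theorem isFiniteOrderThickening_cl : MoreMor.IsFiniteOrderThickening (cl J) :=
  K565.Thick.isFiniteOrderThickening (Ideal.Quotient.mk J) Ideal.Quotient.mk_surjective (by rwa [Ideal.mk_ker])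

include hJ in
theorem isThickening_fst (X : Over (Spec (CommRingCat.of A))) :
    MoreMor.IsThickening (pullback.fst X.hom (cl J)) ∧ IsNilpotent (pullback.fst X.hom (cl J)).ker := by
  obtain ⟨⟨h1, h2⟩, h3⟩ := isFiniteOrderThickening_cl hJ
  have sq : IsPullback (pullback.fst X.hom (cl J)) (pullback.snd X.hom (cl J)) X.hom (cl J) :=
    IsPullback.of_hasPullback _ _
  exact ⟨⟨MorphismProperty.of_isPullback (P := @IsClosedImmersion) sq.flip h1,
    MorphismProperty.of_isPullback (P := @Surjective) sq.flip h2⟩,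
    Flat2C.Thick.isNilpotent_ker_of_isPullback sq h3⟩

/-- An affine scheme over `Spec R` is the spectrum of an `R`-algebra. -/
lemma exists_pt_iso {R : Type u} [CommRing R] (X : Over (Spec (CommRingCat.of R))) [IsAffine X.left] :
    ∃ (B : Type u) (_ : CommRing B) (_ : Algebra R B),
      Nonempty (X ≅ Over.mk (Spec.map (CommRingCat.ofHom (algebraMap R B)))) := by
  obtain ⟨φ, hφ⟩ := Spec.map_surjective (X.left.isoSpec.inv ≫ X.hom)
  let _ : Algebra R Γ(X.left, ⊤) := φ.hom.toAlgebra
  refine ⟨Γ(X.left, ⊤), inferInstance, inferInstance, ⟨Over.isoMk X.left.isoSpec ?_⟩⟩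
  change X.left.isoSpec.hom ≫ Spec.map φ = X.hom
  rw [hφ, Iso.hom_inv_id_assoc]

include hJ in
/-- Morphisms to smooth affine schemes lift. -/
theorem exists_lift {H Y : Over (Spec (CommRingCat.of A))} [Smooth H.hom] [IsAffine H.left] [IsAffine Y.left]
    (ψ₀ : (Over.pullback (cl J)).obj Y ⟶ (Over.pullback (cl J)).obj H) :
    ∃ ψ : Y ⟶ H, (Over.pullback (cl J)).map ψ = ψ₀ := by
  obtain ⟨⟨h1, h2⟩, h3⟩ := isThickening_fst hJ Y
  have h4 := Flat2H.FSLift.isNilpotent_ker_appTop (pullback.fst Y.hom (cl J)) h3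
  obtain ⟨l, hl1, hl2, -⟩ := Flat2H.FSLift.exists_lift_of_affine H.hom (pullback.fst Y.hom (cl J)) h4
    (ψ₀.left ≫ pullback.fst H.hom (cl J)) Y.hom (by
      rw [Category.assoc, pullback.condition, pullback.condition, ← Category.assoc]
      congr 1
      exact (Over.w ψ₀).symm) ⊤ ⊤ (isAffineOpen_top _) (isAffineOpen_top _) le_top (by simp) (by simp)
    (Flat2H.FSSmoothHom.affLocFS_of_smooth H.hom _ _ (isAffineOpen_top _) (isAffineOpen_top _) _)
  refine ⟨Over.homMk l hl2, ?_⟩
  ext1
  apply pullback.hom_ext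
  · refine (pullback.lift_fst _ _ _).trans ?_
    exact hl1
  · refine (pullback.lift_snd _ _ _).trans ?_
    exact (Over.w ψ₀).symm

include hJ in
/-- A morphism of affine schemes over `Spec A` with flat source is an isomorphism if its reduction is. -/
theorem isIso_of_flat {H Y : Over (Spec (CommRingCat.of A))} [IsAffine H.left] [IsAffine Y.left] [Flat Y.hom]
    (ψ : Y ⟶ H) (h : IsIso ((Over.pullback (cl J)).map ψ)) : IsIso ψ := by
  obtain ⟨B', _, _, ⟨eY⟩⟩ := exists_pt_iso Y
  obtain ⟨B, _, _, ⟨eH⟩⟩ := exists_pt_iso H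
  have iY : IsIso eY.inv.left := inferInstanceAs (IsIso ((Over.forget _).map eY.inv))
  have iH : IsIso eH.inv.left := inferInstanceAs (IsIso ((Over.forget _).map eH.inv))
  have iH' : IsIso eH.hom.left := inferInstanceAs (IsIso ((Over.forget _).map eH.hom))
  obtain ⟨φ, hφ⟩ := Spec.map_surjective (R := CommRingCat.of B) (S := CommRingCat.of B') (eY.inv.left ≫ ψ.left ≫ eH.hom.left)
  have hφA : CommRingCat.ofHom (algebraMap A B) ≫ φ = CommRingCat.ofHom (algebraMap A B') := by
    apply Spec.map_injective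
    rw [Spec.map_comp, hφ]
    exact Over.w (eY.inv ≫ ψ ≫ eH.hom)
  let _ : Algebra B B' := φ.hom.toAlgebra
  have hst : IsScalarTower A B B' := IsScalarTower.of_algebraMap_eq fun a => by
    exact (congrArg (fun k => k.hom a) hφA).symm
  have hfl : Module.Flat A B' := by
    have h1 : Flat (Spec.map (CommRingCat.ofHom (algebraMap A B'))) := by
      have h2 : Spec.map (CommRingCat.ofHom (algebraMap A B')) = eY.inv.left ≫ Y.hom := (Over.w eY.inv).symm
      rw [h2]
      infer_instance
    rw [HasRingHomProperty.Spec_iff (P := @Flat)] at h1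
    simp only [CommRingCat.hom_ofHom] at h1
    exact RingHom.flat_algebraMap_iff.mp h1
  have hbij := Sga3B.Parab.FibIsoSch.bijective_of_isIso (R := A) (A := B) (B := B') (K := A ⧸ J) ψ
    (𝟙 _) eH.inv.left eY.inv.left (by rw [Category.comp_id]; exact Over.w eH.inv)
    (IsPullback.of_horiz_isIso ⟨by
      have h1 : Spec.map (CommRingCat.ofHom (algebraMap B B')) = eY.inv.left ≫ ψ.left ≫ eH.hom.left := hφ
      have h2 : eH.hom.left ≫ eH.inv.left = 𝟙 _ := by rw [← Over.comp_left, Iso.hom_inv_id]; rfl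
      rw [h1, Category.assoc, Category.assoc, h2, Category.comp_id]⟩) (by
      rw [Category.comp_id]
      exact h)
  have hb : Function.Bijective (IsScalarTower.toAlgHom A B B').toLinearMap :=
    _root_.K87.NilFlat.bijective_of_baseChange J hJ _ hbij
  have hφi : IsIso φ := by
    rw [ConcreteCategory.isIso_iff_bijective]
    exact hb
  have h5 : ψ = eY.hom ≫ (eY.inv ≫ ψ ≫ eH.hom) ≫ eH.inv := by simp
  have h6 : IsIso (eY.inv ≫ ψ ≫ eH.hom).left := by
    change IsIso (eY.inv.left ≫ ψ.left ≫ eH.hom.left)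
    rw [← hφ]
    infer_instance
  have h7 : IsIso (eY.inv ≫ ψ ≫ eH.hom) := by
    have : IsIso ((Over.forget _).map (eY.inv ≫ ψ ≫ eH.hom)) := h6
    exact isIso_of_reflects_iso _ (Over.forget _)
  rw [h5]
  infer_instance

end K17.NilLift
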