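import Groth.Agent.SGA3x.K13.MTLiftProps
import Groth.Agent.SGA3x.K17.HaarLift
import Groth.Agent.SGA3x.K17.NilLift

/-!
# Lifting subgroups of multiplicative type along an ideal of square zero

`A` a ring, `J` an ideal of square zero, `G` any group scheme over `Spec A`.

* `exists_hom_bc`: a morphism of schemes `H ⟶ G`, `H` of multiplicative type, which is a homomorphism modulo `J` can be
  replaced by a homomorphism which is the same modulo `J`;
* `exists_iso_lift`: a flat scheme over `Spec A` with the reduction of a smooth group `H` of multiplicative type and of finite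
  type is isomorphic to `H`;
* `exists_subgroup_lift`: a smooth subgroup of multiplicative type of `G₀` which lifts to a flat subscheme of `G` lifts to a
  subgroup of `G`.
-/

set_option autoImplicit false
universe u
open CategoryTheory MonoidalCategory CartesianMonoidalCategory MonObj GrpObj AlgebraicGeometry Limits

namespace K17.SubLift

open Groth.Agent Groth.Agent.Sga3B Groth.Agent.Sga3B.BcPts NilLift Groth.Agent.Sga3B.InfConj

/-- Groups of multiplicative type and of finite type are of multiplicative type. -/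
theorem isMT_of_isMultTypeFT {S : Scheme.{u}} {H : Over S} [GrpObj H] (h : SGA3x.IsMultTypeFT H) :
    K7.MTHaar.IsMT H := by
  obtain ⟨S', f, hf, hs, hc, h⟩ := h
  refine ⟨S', f, hf, hs, hc, fun s' => ?_⟩
  obtain ⟨U, hU, M, _, -, e⟩ := h s'
  exact ⟨U, hU, M, inferInstance, e⟩

section points

variable {S S' : Scheme.{u}} (f : S' ⟶ S)

/-- A morphism whose base change is a homomorphism is multiplicative on points over `S'`. -/
theorem mul_comp_of_bc {H G : Over S} [GrpObj H] [GrpObj G] (φ : H ⟶ G) [IsMonHom ((Over.pullback f).map φ)]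
    {X : Over S} (p : X ⟶ Over.mk f) (a b : X ⟶ H) : (a * b) ≫ φ = (a ≫ φ) * (b ≫ φ) := by
  rw [← cancel_epi (overIso p).hom]
  apply (bcEquiv f (Over.mk p.left) G).injective
  have h1 : (overIso p).hom ≫ (a * b) ≫ φ = (((overIso p).hom ≫ a) * ((overIso p).hom ≫ b)) ≫ φ := by
    rw [← Category.assoc, MonObj.comp_mul]
  have h2 : (overIso p).hom ≫ ((a ≫ φ) * (b ≫ φ)) =
      (((overIso p).hom ≫ a) ≫ φ) * (((overIso p).hom ≫ b) ≫ φ) := by
    rw [MonObj.comp_mul, Category.assoc, Category.assoc]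
  rw [h1, h2, bcEquiv_mul, bcEquiv_comp f ((overIso p).hom ≫ a) φ, bcEquiv_comp f ((overIso p).hom ≫ b) φ,
    bcEquiv_comp f (((overIso p).hom ≫ a) * ((overIso p).hom ≫ b)) φ, bcEquiv_mul, MonObj.mul_comp]

theorem map_eq_of_points {H G : Over S} (φ ψ : H ⟶ G)
    (h : ∀ (X : Over S) (_ : X ⟶ Over.mk f) (a : X ⟶ H), a ≫ φ = a ≫ ψ) :
    (Over.pullback f).map φ = (Over.pullback f).map ψ := by
  have h1 := h _ (Over.homMk (Red.bc f H).hom) ((bcEquiv f (Red.bc f H) H).symm (𝟙 _))
  have h2 := congrArg (bcEquiv f (Red.bc f H) G) h1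
  rwa [bcEquiv_comp, bcEquiv_comp, Equiv.apply_symm_apply, Category.id_comp, Category.id_comp] at h2

end points

variable {A : Type u} [CommRing A] {J : Ideal A} (hJ : J ^ 2 = ⊥)

include hJ in
/-- **Correcting a lift.** -/
theorem exists_hom_bc {H G : Over (Spec (CommRingCat.of A))} [GrpObj H] [GrpObj G] (hH : K7.MTHaar.IsMT H)
    (φ : H ⟶ G) (hφ : IsMonHom ((Over.pullback (cl J)).map φ)) :
    ∃ v : H ⟶ G, IsMonHom v ∧ (Over.pullback (cl J)).map v = (Over.pullback (cl J)).map φ := by
  obtain ⟨v, hv, h⟩ := HaarLift.exists_hom hJ hH φ (fun X p a b => mul_comp_of_bc (cl J) φ p a b)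
  exact ⟨v, hv, map_eq_of_points (cl J) v φ h⟩

include hJ in
lemma isNilpotent_of_sq : IsNilpotent J := ⟨2, hJ⟩

include hJ in
/-- **Uniqueness of smooth affine lifts.** -/
theorem exists_iso_lift {H Y : Over (Spec (CommRingCat.of A))} [Smooth H.hom] [IsAffine H.left] [Flat Y.hom]
    (e : (Over.pullback (cl J)).obj Y ≅ (Over.pullback (cl J)).obj H) :
    ∃ e' : Y ≅ H, (Over.pullback (cl J)).map e'.hom = e.hom := by
  have hn := isNilpotent_of_sq hJ
  obtain ⟨h1, h2⟩ := isThickening_fst hn Y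
  have haffH : IsAffineHom H.hom := inferInstance
  have haff0 : IsAffineHom ((Over.pullback (cl J)).obj Y).hom := by
    have i1 : IsAffineHom ((Over.pullback (cl J)).obj H).hom := inferInstanceAs (IsAffineHom (pullback.snd _ _))
    rw [← Over.w e.hom]
    have : IsIso e.hom.left := inferInstanceAs (IsIso ((Over.forget _).map e.hom))
    infer_instance
  have haffY : IsAffineHom Y.hom :=
    (S1302.result (pullback.fst Y.hom (cl J)) (cl J) (pullback.snd Y.hom (cl J)) Y.hom h1
      (isFiniteOrderThickening_cl hn).1 pullback.condition).1 haff0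
  have hY : IsAffine Y.left := isAffine_of_isAffineHom Y.hom
  obtain ⟨ψ, hψ⟩ := exists_lift hn e.hom
  have h3 : IsIso ((Over.pullback (cl J)).map ψ) := by rw [hψ]; infer_instance
  have h4 := isIso_of_flat hn ψ h3
  exact ⟨asIso ψ, hψ⟩

include hJ in
/-- **Lifting of smooth subgroups of multiplicative type.** -/
theorem exists_subgroup_lift (G : Over (Spec (CommRingCat.of A))) [GrpObj G]
    (H₀ : Over (Spec (CommRingCat.of (A ⧸ J)))) [GrpObj H₀] (j₀ : H₀ ⟶ Red.bc (cl J) G) [IsMonHom j₀]
    (hj₀ : IsImmersion j₀.left) [Smooth H₀.hom] (hm₀ : SGA3x.IsMultTypeFT H₀)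
    (Y : Over (Spec (CommRingCat.of A))) (y : Y ⟶ G) [Flat Y.hom]
    (e : Red.bc (cl J) Y ≅ H₀) (he : e.hom ≫ j₀ = (Over.pullback (cl J)).map y) :
    ∃ (H : Over (Spec (CommRingCat.of A))) (_ : GrpObj H) (j : H ⟶ G), IsMonHom j ∧ Mono j ∧ IsImmersion j.left ∧
      SGA3x.IsMultTypeFT H ∧ Smooth H.hom ∧
      ∃ e : Red.bc (cl J) H ≅ H₀, IsMonHom e.hom ∧ e.hom ≫ j₀ = (Over.pullback (cl J)).map j := by
  have hn := isNilpotent_of_sq hJ
  have hnil : ∀ x ∈ J, IsNilpotent x := fun x hx => ⟨2, by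
    have h := Ideal.pow_mem_pow hx 2
    rwa [hJ, Ideal.mem_bot] at h⟩
  obtain ⟨H, _, hH, ⟨ε⟩⟩ := K13.MTLift.exists_lift J hnil H₀ hm₀
  let ε' : Red.bc (cl J) H ≅ H₀ := (Grp.forget _).mapIso ε
  have hε' : IsMonHom ε'.hom := ε.hom.hom.isMonHom_hom
  have hfl : Flat H.hom := K10.MTLoc.flat hH
  have hlfp : LocallyOfFinitePresentation H.hom := K10.MTLoc.locallyOfFinitePresentation hH
  have haffh : IsAffineHom H.hom := K10.MTLoc.isAffineHom hH
  have haff : IsAffine H.left := isAffine_of_isAffineHom H.hom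
  have hsm : Smooth H.hom := K13.MTLift.smooth_of_reduction hnil ε' inferInstance
  obtain ⟨e', he'⟩ := exists_iso_lift hJ (H := H) (Y := Y) (e ≪≫ ε'.symm)
  let φ : H ⟶ G := e'.inv ≫ y
  have hφ : (Over.pullback (cl J)).map φ = ε'.hom ≫ j₀ := by
    have h1 : (Over.pullback (cl J)).map e'.hom ≫ (Over.pullback (cl J)).map φ = e.hom ≫ j₀ := by
      rw [← Functor.map_comp, Iso.hom_inv_id_assoc, he]
    rw [he'] at h1
    have h2 : (e ≪≫ ε'.symm).hom ≫ ε'.hom ≫ j₀ = e.hom ≫ j₀ := by simp
    rw [← h2] at h1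
    exact (cancel_epi (e ≪≫ ε'.symm).hom).1 h1
  obtain ⟨v, hv, hv'⟩ := exists_hom_bc hJ (isMT_of_isMultTypeFT hH) φ (by rw [hφ]; infer_instance)
  rw [hφ] at hv'
  have hw : v.left ≫ G.hom = H.hom := Over.w v
  have hft : LocallyOfFiniteType v.left := by
    have : LocallyOfFiniteType (v.left ≫ G.hom) := by rw [hw]; infer_instance
    exact locallyOfFiniteType_of_comp v.left G.hom
  have sq := Sga3B.Parab.FibIsoSch.isPullback_map_left (cl J) v
  have hft0 : LocallyOfFiniteType ((Over.pullback (cl J)).map v).left :=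
    MorphismProperty.of_isPullback (P := @LocallyOfFiniteType) sq hft
  have hG := (isThickening_fst hn G).1
  have him0 : IsImmersion ((Over.pullback (cl J)).map v).left := by
    rw [hv', Over.comp_left]
    have : IsIso ε'.hom.left := inferInstanceAs (IsIso ((Over.forget _).map ε'.hom))
    infer_instance
  have him : IsImmersion v.left := (S1316.result _ _ _ _ hG sq).1 him0
  have hmono : Mono v := by
    have : Mono v.left := inferInstance
    exact (Over.forget _).mono_of_mono_map this
  exact ⟨H, inferInstance, v, hv, hmono, him, hH, hsm, ε', hε', hv'.symm⟩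

end K17.SubLift
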