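import Mathlib.RingTheory.Ideal.AssociatedPrime.Finiteness
import Mathlib.RingTheory.Filtration
import Mathlib.RingTheory.Ideal.Operations

/-!
# Generic vanishing of elements which vanish on a dense family of closed subschemes

`R` noetherian, `η` a prime ideal, `𝔞 k` a family of ideals with `η ⊓ 𝔞 k ≤ η * 𝔞 k` (a flatness condition), such that every
`h ∉ η` is not nilpotent modulo `η ⊔ 𝔞 k` for some `k` (a density condition). If `x ∈ 𝔞 k • Q` for every `k`, `Q` of finite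
type, then `h • x = 0` for some `h ∉ η`.
-/

set_option autoImplicit false
universe u

namespace K17.GenVan

variable {R : Type u} [CommRing R] (η : Ideal R) {κ : Type} (𝔞 : κ → Ideal R)

/-- A form of the vanishing of `Tor₁(Q', R / 𝔞 k)` at `η`. -/
def TP (Q' : Type u) [AddCommGroup Q'] [Module R Q'] : Prop :=
  ∃ h : R, h ∉ η ∧ ∀ (k : κ) (E : Type u) [AddCommGroup E] [Module R E] (π : E →ₗ[R] Q'),
    Function.Surjective π → ∀ y : E, π y = 0 → y ∈ 𝔞 k • (⊤ : Submodule R E) →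
      ∃ N : ℕ, h ^ N • y ∈ 𝔞 k • LinearMap.ker π

variable {η 𝔞}

lemma tp_subsingleton [η.IsPrime] (Q' : Type u) [AddCommGroup Q'] [Module R Q'] [Subsingleton Q'] :
    TP η 𝔞 Q' := by
  refine ⟨1, (Ideal.ne_top_iff_one η).1 (Ideal.IsPrime.ne_top ‹_›), fun k E _ _ π hπ y hy hy' => ⟨0, ?_⟩⟩
  have h1 : LinearMap.ker π = ⊤ := by
    rw [eq_top_iff]
    intro z _
    exact Subsingleton.elim _ _
  rw [h1, pow_zero, one_smul]
  exact hy'

lemma exists_smul_add (k : κ) {E : Type u} [AddCommGroup E] [Module R E] {K : Submodule R E} {e : E}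
    (he : ∀ z : E, ∃ r : R, z - r • e ∈ K) {y : E} (hy : y ∈ 𝔞 k • (⊤ : Submodule R E)) :
    ∃ b ∈ 𝔞 k, y - b • e ∈ 𝔞 k • K := by
  refine Submodule.smul_induction_on hy ?_ ?_
  · intro a ha z _
    obtain ⟨r, hr⟩ := he z
    refine ⟨a * r, Ideal.mul_mem_right _ _ ha, ?_⟩
    have : a • z - (a * r) • e = a • (z - r • e) := by rw [smul_sub, mul_smul]
    rw [this]
    exact Submodule.smul_mem_smul ha hr
  · rintro x y ⟨b, hb, hb'⟩ ⟨c, hc, hc'⟩
    refine ⟨b + c, add_mem hb hc, ?_⟩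
    have : x + y - (b + c) • e = (x - b • e) + (y - c • e) := by rw [add_smul]; abel
    rw [this]
    exact add_mem hb' hc'

lemma tp_quotient [η.IsPrime] (H1 : ∀ k, η ⊓ 𝔞 k ≤ η * 𝔞 k) (𝔯 : Ideal R) (h𝔯 : η ≤ 𝔯) (Q' : Type u)
    [AddCommGroup Q'] [Module R Q'] (f : Q' ≃ₗ[R] R ⧸ 𝔯) : TP η 𝔞 Q' := by
  classical
  have hker : ∀ (E : Type u) [AddCommGroup E] [Module R E] (π : E →ₗ[R] Q') (e : E),
      f (π e) = Ideal.Quotient.mk 𝔯 1 → (∀ z : E, ∃ r : R, z - r • e ∈ LinearMap.ker π) ∧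
      (∀ r : R, r • e ∈ LinearMap.ker π ↔ r ∈ 𝔯) := by
    intro E _ _ π e he
    constructor
    · intro z
      obtain ⟨r, hr⟩ := Ideal.Quotient.mk_surjective (f (π z))
      refine ⟨r, ?_⟩
      rw [LinearMap.mem_ker, map_sub, map_smul, sub_eq_zero]
      apply f.injective
      rw [map_smul, he, ← hr]
      change _ = Ideal.Quotient.mk 𝔯 (r * 1)
      rw [mul_one]
    · intro r
      rw [LinearMap.mem_ker, map_smul, ← f.map_eq_zero_iff, map_smul, he]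
      change Ideal.Quotient.mk 𝔯 (r * 1) = 0 ↔ _
      rw [mul_one, Ideal.Quotient.eq_zero_iff_mem]
  by_cases hle : 𝔯 ≤ η
  · obtain rfl : 𝔯 = η := le_antisymm hle h𝔯
    refine ⟨1, (Ideal.ne_top_iff_one 𝔯).1 (Ideal.IsPrime.ne_top ‹_›), fun k E _ _ π hπ y hy hy' => ⟨0, ?_⟩⟩
    obtain ⟨e, he⟩ := hπ (f.symm (Ideal.Quotient.mk 𝔯 1))
    obtain ⟨h2, h3⟩ := hker E π e (by rw [he, f.apply_symm_apply])
    obtain ⟨b, hb, hb'⟩ := exists_smul_add (𝔞 := 𝔞) k h2 hy'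
    have hb2 : b • e ∈ LinearMap.ker π := by
      have h4 : y - b • e ∈ LinearMap.ker π := Submodule.smul_le_right hb'
      have h5 := sub_mem (LinearMap.mem_ker.2 hy) h4
      rwa [sub_sub_cancel] at h5
    have hb3 : b ∈ 𝔯 * 𝔞 k := H1 k ⟨(h3 b).1 hb2, hb⟩
    rw [pow_zero, one_smul]
    have h6 : y = (y - b • e) + b • e := by abel
    rw [h6]
    refine add_mem hb' ?_
    rw [mul_comm] at hb3
    refine Submodule.mul_induction_on hb3 ?_ ?_
    · intro s hs t ht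
      rw [mul_smul]
      exact Submodule.smul_mem_smul hs ((h3 t).2 ht)
    · intro s t hs ht
      rw [add_smul]
      exact add_mem hs ht
  · obtain ⟨h, hh, hh'⟩ := Set.not_subset.1 hle
    refine ⟨h, hh', fun k E _ _ π hπ y hy hy' => ⟨1, ?_⟩⟩
    obtain ⟨e, he⟩ := hπ (f.symm (Ideal.Quotient.mk 𝔯 1))
    obtain ⟨h2, h3⟩ := hker E π e (by rw [he, f.apply_symm_apply])
    obtain ⟨b, hb, hb'⟩ := exists_smul_add (𝔞 := 𝔞) k h2 hy'
    rw [pow_one]
    have h6 : h • y = h • (y - b • e) + b • (h • e) := by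
      rw [smul_sub, ← mul_smul b, mul_comm b, mul_smul]; abel
    rw [h6]
    exact add_mem (Submodule.smul_mem _ _ hb') (Submodule.smul_mem_smul hb ((h3 h).2 hh))

lemma tp_exact [η.IsPrime] {M₁ M₂ M₃ : Type u} [AddCommGroup M₁] [Module R M₁] [AddCommGroup M₂] [Module R M₂]
    [AddCommGroup M₃] [Module R M₃] (f : M₁ →ₗ[R] M₂) (g : M₂ →ₗ[R] M₃) (hf : Function.Injective f)
    (hg : Function.Surjective g) (hfg : Function.Exact f g) (h₁ : TP η 𝔞 M₁) (h₃ : TP η 𝔞 M₃) : TP η 𝔞 M₂ := by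
  obtain ⟨s₁, hs₁, H₁⟩ := h₁
  obtain ⟨s₃, hs₃, H₃⟩ := h₃
  refine ⟨s₁ * s₃, fun hmem => ?_, fun k E _ _ π hπ y hy hy' => ?_⟩
  · exact (Ideal.IsPrime.mem_or_mem ‹_› hmem).elim hs₁ hs₃
  · obtain ⟨N, hN⟩ := H₃ k E (g ∘ₗ π) (hg.comp hπ) y (by rw [LinearMap.comp_apply, hy, map_zero]) hy'
    let E' : Submodule R E := LinearMap.ker (g ∘ₗ π)
    have hE' : ∀ z : E', ∃ w : M₁, f w = π z.1 := fun z => (hfg _).1 z.2
    choose w hw using hE'
    let π' : E' →ₗ[R] M₁ :=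
      { toFun := w
        map_add' := fun a b => hf (by rw [map_add, hw, hw, hw]; exact map_add π a.1 b.1)
        map_smul' := fun r a => hf (by rw [RingHom.id_apply, map_smul, hw, hw]; exact map_smul π r a.1) }
    have hπ'w : ∀ z : E', f (π' z) = π z.1 := hw
    have hπ' : Function.Surjective π' := by
      intro v
      obtain ⟨z, hz⟩ := hπ (f v)
      refine ⟨⟨z, ?_⟩, hf ?_⟩
      · change g (π z) = 0
        rw [hz]
        exact (hfg _).2 ⟨v, rfl⟩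
      · rw [hπ'w, hz]
    have hmem : s₃ ^ N • y ∈ E' := Submodule.smul_le_right hN
    have hmem' : (⟨s₃ ^ N • y, hmem⟩ : E') ∈ 𝔞 k • (⊤ : Submodule R E') := by
      have h1 : 𝔞 k • E' = (𝔞 k • (⊤ : Submodule R E')).map E'.subtype := by
        rw [Submodule.map_smul'', Submodule.map_top, Submodule.range_subtype]
      have h2 : s₃ ^ N • y ∈ 𝔞 k • E' := hN
      rw [h1] at h2
      obtain ⟨z, hz, hz'⟩ := h2
      have h3 : z = ⟨s₃ ^ N • y, hmem⟩ := Subtype.ext hz'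
      rwa [← h3]
    obtain ⟨N', hN'⟩ := H₁ k E' π' hπ' ⟨s₃ ^ N • y, hmem⟩ (hf (by rw [hπ'w, map_zero, map_smul, hy, smul_zero])) hmem'
    refine ⟨N + N', ?_⟩
    have h4 : (𝔞 k • LinearMap.ker π').map E'.subtype ≤ 𝔞 k • LinearMap.ker π := by
      rw [Submodule.map_smul'']
      refine Submodule.smul_mono le_rfl ?_
      rintro _ ⟨z, hz, rfl⟩
      rw [LinearMap.mem_ker]
      have h5 : f (π' z) = π z.1 := hπ'w z
      rw [LinearMap.mem_ker.1 hz, map_zero] at h5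
      exact h5.symm
    have h6 : s₁ ^ N' • s₃ ^ N • y ∈ 𝔞 k • LinearMap.ker π := h4 ⟨_, hN', rfl⟩
    have h7 : (s₁ * s₃) ^ (N + N') • y = (s₁ ^ N * s₃ ^ N') • (s₁ ^ N' • s₃ ^ N • y) := by
      rw [smul_smul, smul_smul]
      congr 1
      ring
    rw [h7]
    exact Submodule.smul_mem _ _ h6

/-- The vanishing holds for all modules killed by a power of `η`. -/
lemma tp_of_finite [IsNoetherianRing R] [η.IsPrime] (H1 : ∀ k, η ⊓ 𝔞 k ≤ η * 𝔞 k) (Q' : Type u)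
    [AddCommGroup Q'] [Module R Q'] [hQ : Module.Finite R Q'] (n : ℕ)
    (hn : η ^ n • (⊤ : Submodule R Q') = ⊥) : TP η 𝔞 Q' := by
  have key : (∃ n : ℕ, η ^ n • (⊤ : Submodule R Q') = ⊥) → TP η 𝔞 Q' := by
    refine IsNoetherianRing.induction_on_isQuotientEquivQuotientPrime (A := R) hQ
      (motive := fun N _ _ _ => (∃ n : ℕ, η ^ n • (⊤ : Submodule R N) = ⊥) → TP η 𝔞 N) ?_ ?_ ?_
    · intro N _ _ _ _ _
      exact tp_subsingleton N
    · rintro N _ _ _ 𝔯 f ⟨n, hn⟩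
      refine tp_quotient H1 𝔯.1 ?_ N f
      intro s hs
      have h1 : s ^ n • f.symm (Ideal.Quotient.mk 𝔯.1 1) ∈ (⊥ : Submodule R N) := by
        rw [← hn]
        exact Submodule.smul_mem_smul (Ideal.pow_mem_pow hs n) trivial
      rw [Submodule.mem_bot, ← f.map_eq_zero_iff, map_smul, f.apply_symm_apply] at h1
      have h2 : Ideal.Quotient.mk 𝔯.1 (s ^ n * 1) = 0 := h1
      rw [mul_one, Ideal.Quotient.eq_zero_iff_mem] at h2
      exact 𝔯.2.mem_of_pow_mem n h2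
    · rintro N₁ _ _ _ N₂ _ _ _ N₃ _ _ _ f g hf hg hfg ih₁ ih₃ ⟨n, hn⟩
      refine tp_exact f g hf hg hfg (ih₁ ⟨n, ?_⟩) (ih₃ ⟨n, ?_⟩)
      · rw [eq_bot_iff]
        intro z hz
        have h1 : f z ∈ η ^ n • (⊤ : Submodule R N₂) := by
          have h2 : f z ∈ (η ^ n • (⊤ : Submodule R N₁)).map f := ⟨z, hz, rfl⟩
          rw [Submodule.map_smul''] at h2
          exact Submodule.smul_mono le_rfl le_top h2
        rw [hn, Submodule.mem_bot] at h1
        exact (Submodule.mem_bot R).2 (hf (by rw [h1, map_zero]))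
      · have h2 : (η ^ n • (⊤ : Submodule R N₂)).map g = η ^ n • (⊤ : Submodule R N₃) := by
          rw [Submodule.map_smul'', Submodule.map_top, LinearMap.range_eq_top.2 hg]
        rw [← h2, hn, Submodule.map_bot]
  exact key ⟨n, hn⟩

lemma pow_smul_quotient (n : ℕ) {E : Type u} [AddCommGroup E] [Module R E] (P : Submodule R E)
    (h : η ^ n • (⊤ : Submodule R E) ≤ P) : η ^ n • (⊤ : Submodule R (E ⧸ P)) = ⊥ := by
  have h2 : (η ^ n • (⊤ : Submodule R E)).map P.mkQ = η ^ n • (⊤ : Submodule R (E ⧸ P)) := by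
    rw [Submodule.map_smul'', Submodule.map_top, Submodule.range_mkQ]
  rw [← h2, eq_bot_iff]
  rintro _ ⟨z, hz, rfl⟩
  rw [Submodule.mem_bot, Submodule.mkQ_apply, Submodule.Quotient.mk_eq_zero]
  exact h hz

lemma mem_smul_quotient (k : κ) {E : Type u} [AddCommGroup E] [Module R E] (P : Submodule R E) {x : E}
    (hx : x ∈ 𝔞 k • (⊤ : Submodule R E)) : P.mkQ x ∈ 𝔞 k • (⊤ : Submodule R (E ⧸ P)) := by
  have h1 : P.mkQ x ∈ (𝔞 k • (⊤ : Submodule R E)).map P.mkQ := ⟨x, hx, rfl⟩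
  rw [Submodule.map_smul''] at h1
  exact Submodule.smul_mono le_rfl le_top h1

lemma step_aux (h : R) {E : Type u} [AddCommGroup E] [Module R E] (x : E) (k : κ)
    (H : ∀ (E' : Type u) [AddCommGroup E'] [Module R E'] (π : E' →ₗ[R] (E ⧸ (R ∙ x))),
      Function.Surjective π → ∀ y : E', π y = 0 → y ∈ 𝔞 k • (⊤ : Submodule R E') →
      ∃ N : ℕ, h ^ N • y ∈ 𝔞 k • LinearMap.ker π) (hx : x ∈ 𝔞 k • (⊤ : Submodule R E)) :
    ∃ (N : ℕ) (a : R), a ∈ 𝔞 k ∧ h ^ N • x = a • x := by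
  obtain ⟨N, hN⟩ := H E (R ∙ x).mkQ (Submodule.mkQ_surjective _) x
      (by rw [Submodule.mkQ_apply, Submodule.Quotient.mk_eq_zero]; exact Submodule.mem_span_singleton_self x) hx
  rw [Submodule.ker_mkQ, Submodule.mem_smul_span_singleton] at hN
  obtain ⟨a, ha, ha'⟩ := hN
  exact ⟨N, a, ha, ha'.symm⟩

/-- **Generic vanishing.** -/
theorem exists_smul_eq_zero [IsNoetherianRing R] [η.IsPrime] (H1 : ∀ k, η ⊓ 𝔞 k ≤ η * 𝔞 k)
    (H2 : ∀ h : R, h ∉ η → ∃ k, h ∉ (η ⊔ 𝔞 k).radical) {Q : Type u} [AddCommGroup Q] [Module R Q]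
    [Module.Finite R Q] (x : Q) (hx : ∀ k, x ∈ 𝔞 k • (⊤ : Submodule R Q)) : ∃ h : R, h ∉ η ∧ h • x = 0 := by
  have step : ∀ n : ℕ, ∃ s : R, s ∉ η ∧ s • x ∈ η ^ n • (⊤ : Submodule R Q) := by
    intro n
    let P : Submodule R Q := η ^ n • (⊤ : Submodule R Q)
    have hE := pow_smul_quotient (η := η) n P le_rfl
    have hQ' := pow_smul_quotient (η := η) n (R ∙ P.mkQ x) (hE.le.trans bot_le)
    obtain ⟨h, hh, H⟩ := tp_of_finite H1 _ n hQ'
    obtain ⟨k, hk⟩ := H2 h hh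
    obtain ⟨N, a, ha, hN⟩ := step_aux h (P.mkQ x) k (H k) (mem_smul_quotient k P (hx k))
    refine ⟨h ^ N - a, fun hmem => hk ⟨N, ?_⟩, ?_⟩
    · have h1 : h ^ N = (h ^ N - a) + a := by ring
      rw [h1]
      exact add_mem (Ideal.mem_sup_left hmem) (Ideal.mem_sup_right ha)
    · have h1 : P.mkQ ((h ^ N - a) • x) = 0 := by
        rw [map_smul, sub_smul, hN, sub_self]
      rwa [Submodule.mkQ_apply, Submodule.Quotient.mk_eq_zero] at h1
  obtain ⟨k, hk⟩ := Ideal.exists_pow_inf_eq_pow_smul η (R ∙ x)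
  obtain ⟨s, hs, hs'⟩ := step (k + 1)
  have h1 : s • x ∈ η ^ (k + 1) • (⊤ : Submodule R Q) ⊓ (R ∙ x) :=
    ⟨hs', Submodule.smul_mem _ _ (Submodule.mem_span_singleton_self x)⟩
  rw [hk (k + 1) (Nat.le_succ k), Nat.add_sub_cancel_left, pow_one] at h1
  have h2 : s • x ∈ η • (R ∙ x) := Submodule.smul_mono le_rfl inf_le_right h1
  rw [Submodule.mem_smul_span_singleton] at h2
  obtain ⟨e, he, he'⟩ := h2
  refine ⟨s - e, fun hmem => hs ?_, ?_⟩
  · have := add_mem hmem he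
    rwa [sub_add_cancel] at this
  · rw [sub_smul, he', sub_self]

end K17.GenVan
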