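import Mathlib.RingTheory.Flat.EquationalCriterion
import Mathlib.RingTheory.Ideal.Quotient.Operations
import Mathlib.RingTheory.Ideal.Maximal
import Mathlib.RingTheory.Noetherian.Basic
import Mathlib.RingTheory.Finiteness.Finsupp
import Mathlib.RingTheory.RingHom.Flat
import Mathlib.Tactic.LinearCombination

/-!
# Linear systems with unknowns in an ideal

`I` an ideal of `R`, `c` a matrix over `R`, `a` a vector over `I`. `Sol I c a D`: the system `c x = a` has a solution with
coordinates in `I D`, `D` an `R`-algebra. `ann I c a`: the ideal of the `h` such that `c x = h a` has a solution in `I`.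

* `ann_map_eq_top`: `D` flat over `R`, solution over `D` ⇒ `ann` generates the unit ideal of `D`;
* `sol_self_iff`: solution over `R` ⇔ `ann = ⊤`.
-/

set_option autoImplicit false
universe u

namespace K17.LinSys

variable {R : Type u} [CommRing R] (I : Ideal R) {m n : ℕ} (c : Fin m → Fin n → R) (a : Fin m → R)

/-- The system `c x = a` has a solution in `I D`. -/
def Sol (D : Type u) [CommRing D] (φ : R →+* D) : Prop :=
  ∃ x : Fin n → D, (∀ i, x i ∈ I.map φ) ∧ ∀ j, ∑ i, φ (c j i) * x i = φ (a j)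

/-- the ideal of the `h` such that `c x = h a` has a solution in `I` -/
def ann : Ideal R where
  carrier := {h | ∃ x : Fin n → R, (∀ i, x i ∈ I) ∧ ∀ j, ∑ i, c j i * x i = h * a j}
  add_mem' := by
    rintro h h' ⟨x, hx, hx'⟩ ⟨y, hy, hy'⟩
    refine ⟨x + y, fun i => add_mem (hx i) (hy i), fun j => ?_⟩
    simp only [Pi.add_apply, mul_add, Finset.sum_add_distrib, hx', hy', add_mul]
  zero_mem' := ⟨0, fun i => zero_mem _, fun j => by simp⟩
  smul_mem' := by
    rintro r h ⟨x, hx, hx'⟩
    refine ⟨fun i => r * x i, fun i => Ideal.mul_mem_left _ _ (hx i), fun j => ?_⟩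
    have : ∀ i, c j i * (r * x i) = r * (c j i * x i) := fun i => by ring
    simp only [this, ← Finset.mul_sum, hx', smul_eq_mul]
    ring

lemma mem_ann {h : R} : h ∈ ann I c a ↔ ∃ x : Fin n → R, (∀ i, x i ∈ I) ∧ ∀ j, ∑ i, c j i * x i = h * a j := Iff.rfl

lemma sol_self_iff : Sol I c a R (RingHom.id R) ↔ ann I c a = ⊤ := by
  rw [Ideal.eq_top_iff_one, mem_ann]
  simp [Sol]

lemma Sol.map {D D' : Type u} [CommRing D] [CommRing D'] {φ : R →+* D} (h : Sol I c a D φ) (ψ : D →+* D') :
    Sol I c a D' (ψ.comp φ) := by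
  obtain ⟨x, hx, hx'⟩ := h
  refine ⟨fun i => ψ (x i), fun i => ?_, fun j => ?_⟩
  · rw [← Ideal.map_map]
    exact Ideal.mem_map_of_mem ψ (hx i)
  · rw [RingHom.comp_apply, ← hx' j, map_sum]
    simp

lemma mem_ideal_map {D : Type u} [CommRing D] (φ : R →+* D) {y : D} (hy : y ∈ I.map φ) :
    ∃ (l : ℕ) (d : Fin l → D) (z : Fin l → R), (∀ i, z i ∈ I) ∧ y = ∑ i, d i * φ (z i) := by
  refine Submodule.span_induction ?_ ?_ ?_ ?_ hy
  · rintro _ ⟨z, hz, rfl⟩
    exact ⟨1, fun _ => 1, fun _ => z, fun _ => hz, by simp⟩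
  · exact ⟨0, Fin.elim0, Fin.elim0, fun i => i.elim0, by simp⟩
  · rintro x y _ _ ⟨l, d, z, hz, rfl⟩ ⟨l', d', z', hz', rfl⟩
    refine ⟨l + l', Fin.append d d', Fin.append z z', fun i => ?_, ?_⟩
    · refine Fin.addCases (fun i => ?_) (fun i => ?_) i
      · rw [Fin.append_left]; exact hz i
      · rw [Fin.append_right]; exact hz' i
    · rw [Fin.sum_univ_add]
      simp
  · rintro b x _ ⟨l, d, z, hz, rfl⟩
    exact ⟨l, fun i => b * d i, z, hz, by simp [Finset.mul_sum, mul_assoc]⟩

/-- Simultaneous expression of finitely many elements of `I D`. -/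
lemma mem_ideal_map_fin {D : Type u} [CommRing D] (φ : R →+* D) {n : ℕ} (y : Fin n → D) (hy : ∀ i, y i ∈ I.map φ) :
    ∃ (l : ℕ) (d : Fin l → D) (z : Fin n → Fin l → R), (∀ i p, z i p ∈ I) ∧ ∀ i, y i = ∑ p, d p * φ (z i p) := by
  induction n with
  | zero => exact ⟨0, Fin.elim0, fun i => i.elim0, fun i => i.elim0, fun i => i.elim0⟩
  | succ n ih =>
    obtain ⟨l, d, z, hz, hz'⟩ := ih (fun i => y i.castSucc) (fun i => hy _)
    obtain ⟨l', d', z', h1, h2⟩ := mem_ideal_map I φ (hy (Fin.last n))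
    refine ⟨l + l', Fin.append d d', fun i => Fin.lastCases (motive := fun _ => Fin (l + l') → R)
      (Fin.append 0 z') (fun i => Fin.append (z i) 0) i, fun i => ?_, fun i => ?_⟩
    · refine Fin.lastCases ?_ (fun i => ?_) i
      · intro p
        simp only [Fin.lastCases_last]
        refine Fin.addCases (fun p => ?_) (fun p => ?_) p
        · rw [Fin.append_left]; exact zero_mem _
        · rw [Fin.append_right]; exact h1 p
      · intro p
        simp only [Fin.lastCases_castSucc]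
        refine Fin.addCases (fun p => ?_) (fun p => ?_) p
        · rw [Fin.append_left]; exact hz i p
        · rw [Fin.append_right]; exact zero_mem _
    · refine Fin.lastCases ?_ (fun i => ?_) i
      · rw [Fin.sum_univ_add]
        simp [h2]
      · rw [Fin.sum_univ_add]
        simp [hz']

/-- **Flat descent.** -/
theorem ann_map_eq_top {D : Type u} [CommRing D] (φ : R →+* D) (hφ : φ.Flat) (h : Sol I c a D φ) :
    (ann I c a).map φ = ⊤ := by
  classical
  algebraize [φ]
  obtain ⟨x, hx, hx'⟩ := h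
  obtain ⟨l, d, z, hz, hz'⟩ := mem_ideal_map_fin I φ x hx
  -- relations between `1` and the `d p`
  let X : (R × (Fin l → R)) →ₗ[R] D :=
    LinearMap.coprod (LinearMap.toSpanSingleton R D 1) (Fintype.linearCombination R d)
  let F : (Fin m → R) →ₗ[R] (R × (Fin l → R)) := Fintype.linearCombination R
    (fun j => (- a j, fun p => ∑ i, c j i * z i p))
  have hF : ∀ j, F (Pi.single j 1) = (- a j, fun p => ∑ i, c j i * z i p) := by
    intro j
    rw [Fintype.linearCombination_apply_single, one_smul]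
  have hXF : X ∘ₗ F = 0 := by
    refine LinearMap.pi_ext' fun j => ?_
    ext
    simp only [LinearMap.coe_comp, LinearMap.coe_single, Function.comp_apply, LinearMap.zero_apply]
    rw [hF]
    simp only [X, LinearMap.coprod_apply, LinearMap.toSpanSingleton_apply, Fintype.linearCombination_apply]
    have h1 := hx' j
    have h2 : ∑ i, φ (c j i) * x i = ∑ p, (∑ i, c j i * z i p) • d p := by
      simp only [hz', Finset.mul_sum, Algebra.smul_def, RingHom.algebraMap_toAlgebra, map_sum, map_mul, Finset.sum_mul]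
      rw [Finset.sum_comm]
      refine Finset.sum_congr rfl fun p _ => Finset.sum_congr rfl fun i _ => ?_
      ring
    rw [← h2, h1, Algebra.smul_def, RingHom.algebraMap_toAlgebra, map_neg]
    ring
  obtain ⟨k, A, y, hXA, hAF⟩ := Module.Flat.exists_factorization_of_comp_eq_zero_of_free hXF
  -- the coordinates of `A (1, 0)` are in `ann`
  have hmem : ∀ q : Fin k, A (1, 0) q ∈ ann I c a := by
    intro q
    refine ⟨fun i => ∑ p, z i p * A (0, Pi.single p 1) q, fun i => ?_, fun j => ?_⟩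
    · exact sum_mem fun p _ => Ideal.mul_mem_right _ _ (hz i p)
    · have h1 := congrArg (fun f => f (Pi.single j 1) q) hAF
      simp only [LinearMap.coe_comp, Function.comp_apply, LinearMap.zero_apply, Finsupp.coe_zero, Pi.zero_apply] at h1
      rw [hF] at h1
      have h2 : ((- a j, fun p => ∑ i, c j i * z i p) : R × (Fin l → R)) =
          (- a j) • (1, 0) + ∑ p, (∑ i, c j i * z i p) • ((0, Pi.single p 1) : R × (Fin l → R)) := by
        ext p
        · simp [Prod.fst_sum]
        · simp [Finset.sum_apply, Pi.single_apply, Prod.snd_sum]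
      rw [h2, map_add, map_smul, map_sum] at h1
      simp only [map_smul, Finsupp.add_apply, Finsupp.smul_apply, smul_eq_mul, Finsupp.finsetSum_apply] at h1
      have h3 : ∑ i, c j i * ∑ p, z i p * A (0, Pi.single p 1) q =
          ∑ p, (∑ i, c j i * z i p) * A (0, Pi.single p 1) q := by
        simp only [Finset.mul_sum, Finset.sum_mul]
        rw [Finset.sum_comm]
        refine Finset.sum_congr rfl fun p _ => Finset.sum_congr rfl fun i _ => ?_
        ring
      rw [h3]
      linear_combination h1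
  rw [Ideal.eq_top_iff_one]
  have h1 : (1 : D) = X (1, 0) := by simp [X]
  rw [h1, hXA, LinearMap.comp_apply, ← (A (1, 0)).sum_single, Finsupp.sum, map_sum]
  refine sum_mem fun q _ => ?_
  have h2 : y (Finsupp.single q (A (1, 0) q)) = φ (A (1, 0) q) * y (Finsupp.single q 1) := by
    have h3 : Finsupp.single q (A (1, 0) q) = (A (1, 0) q) • (Finsupp.single q 1 : Fin k →₀ R) := by
      rw [Finsupp.smul_single, smul_eq_mul, mul_one]
    rw [h3, map_smul, Algebra.smul_def, RingHom.algebraMap_toAlgebra]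
  rw [h2]
  exact Ideal.mul_mem_right _ _ (Ideal.mem_map_of_mem φ (hmem q))

/-- A prime below a prime of `D` does not contain `ann`. -/
theorem not_ann_le {D : Type u} [CommRing D] (φ : R →+* D) (hφ : φ.Flat) (h : Sol I c a D φ) (𝔔 : Ideal D)
    (h𝔔 : 𝔔 ≠ ⊤) : ¬ ann I c a ≤ 𝔔.comap φ := by
  intro hle
  apply h𝔔
  rw [eq_top_iff, ← ann_map_eq_top I c a φ hφ h]
  exact Ideal.map_le_iff_le_comap.2 hle

/-- **Local to global.** -/
theorem sol_of_local (h : ∀ 𝔮 : Ideal R, 𝔮.IsMaximal → ¬ ann I c a ≤ 𝔮) : Sol I c a R (RingHom.id R) := by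
  rw [sol_self_iff]
  by_contra hne
  obtain ⟨𝔮, h𝔮, hle⟩ := Ideal.exists_le_maximal _ hne
  exact h 𝔮 h𝔮 hle

/-- the linear map of the system -/
def dlin : (Fin n → I) →ₗ[R] (Fin m → I) :=
  LinearMap.pi fun j => ∑ i, c j i • (LinearMap.proj i : (Fin n → I) →ₗ[R] I)

lemma dlin_apply (x : Fin n → I) (j : Fin m) : (dlin I c x j : R) = ∑ i, c j i * (x i : R) := by
  simp [dlin]

/-- the cokernel of the system -/
abbrev Q : Type u := (Fin m → I) ⧸ LinearMap.range (dlin I c)

/-- the obstruction -/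
def ob (ha : ∀ j, a j ∈ I) : Q I c := Submodule.Quotient.mk (fun j => (⟨a j, ha j⟩ : I))

variable {a} in
lemma smul_ob_eq_zero_iff (ha : ∀ j, a j ∈ I) (h : R) : h • ob I c a ha = 0 ↔ h ∈ ann I c a := by
  rw [ob, ← Submodule.Quotient.mk_smul, Submodule.Quotient.mk_eq_zero, mem_ann]
  constructor
  · rintro ⟨x, hx⟩
    refine ⟨fun i => x i, fun i => (x i).2, fun j => ?_⟩
    rw [← dlin_apply, hx]
    rfl
  · rintro ⟨x, hx, hx'⟩
    refine ⟨fun i => ⟨x i, hx i⟩, ?_⟩
    ext j
    rw [dlin_apply]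
    exact hx' j

lemma mem_smul_top_of_mul {𝔞 : Ideal R} (y : I) (hy : (y : R) ∈ 𝔞 * I) : y ∈ 𝔞 • (⊤ : Submodule R I) := by
  have h1 : 𝔞 * I = (𝔞 • (⊤ : Submodule R I)).map (Submodule.subtype I) := by
    rw [Submodule.map_smul'', Submodule.map_top, Submodule.range_subtype]
    rfl
  rw [h1] at hy
  obtain ⟨z, hz, hz'⟩ := hy
  have h2 : z = y := Subtype.ext hz'
  rwa [← h2]

variable {a} in
/-- Solutions over a quotient ring. -/
lemma ob_mem_smul (ha : ∀ j, a j ∈ I) (𝔞 : Ideal R) (h𝔞 : I ⊓ 𝔞 ≤ 𝔞 * I)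
    (h : Sol I c a (R ⧸ 𝔞) (Ideal.Quotient.mk 𝔞)) : ob I c a ha ∈ 𝔞 • (⊤ : Submodule R (Q I c)) := by
  classical
  obtain ⟨xb, hxb, hxb'⟩ := h
  have h1 : ∀ i, ∃ x ∈ I, Ideal.Quotient.mk 𝔞 x = xb i := fun i =>
    (Ideal.mem_map_iff_of_surjective _ Ideal.Quotient.mk_surjective).1 (hxb i)
  choose x hx hx' using h1
  let X : Fin n → I := fun i => ⟨x i, hx i⟩
  let Y : Fin m → I := (fun j => (⟨a j, ha j⟩ : I)) - dlin I c X
  have hY : ∀ j, Y j ∈ 𝔞 • (⊤ : Submodule R I) := by
    intro j
    refine mem_smul_top_of_mul I _ (h𝔞 ⟨(Y j).2, ?_⟩)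
    refine Ideal.Quotient.eq_zero_iff_mem.1 ?_
    change Ideal.Quotient.mk 𝔞 (a j - (dlin I c X j : R)) = 0
    rw [dlin_apply, map_sub, ← hxb' j, map_sum, sub_eq_zero]
    refine Finset.sum_congr rfl fun i _ => ?_
    rw [map_mul, ← hx' i]
  have hY' : Y ∈ 𝔞 • (⊤ : Submodule R (Fin m → I)) := by
    have h2 : Y = ∑ j, LinearMap.single R (fun _ => I) j (Y j) := by
      ext j
      simp [Finset.sum_apply, Pi.single_apply]
    rw [h2]
    refine sum_mem fun j _ => ?_
    have h3 : LinearMap.single R (fun _ => I) j (Y j) ∈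
        (𝔞 • (⊤ : Submodule R I)).map (LinearMap.single R (fun _ : Fin m => I) j) := ⟨_, hY j, rfl⟩
    rw [Submodule.map_smul''] at h3
    exact Submodule.smul_mono le_rfl le_top h3
  have h4 : ob I c a ha = (LinearMap.range (dlin I c)).mkQ Y := by
    rw [Submodule.mkQ_apply, ob, Submodule.Quotient.eq]
    refine ⟨X, ?_⟩
    simp [Y]
  rw [h4]
  have h5 : (LinearMap.range (dlin I c)).mkQ Y ∈
      (𝔞 • (⊤ : Submodule R (Fin m → I))).map (LinearMap.range (dlin I c)).mkQ := ⟨_, hY', rfl⟩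
  rw [Submodule.map_smul''] at h5
  exact Submodule.smul_mono le_rfl le_top h5

end K17.LinSys
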