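import Groth.Agent.SGA3x.K17.CharPts
import Groth.Agent.SGA3x.K17.GenVan
import Groth.Agent.SGA3x.K17.LinSys
import Groth.Agent.SGA3x.K7.GrpAlgFree
import Groth.Agent.Deform.K681.FlatNil
import Mathlib.FieldTheory.IsAlgClosed.AlgebraicClosure
import Mathlib.RingTheory.FiniteType
import Mathlib.RingTheory.Localization.FractionRing
import Mathlib.RingTheory.Flat.Localization
import Mathlib.Algebra.MonoidAlgebra.NoZeroDivisors
import Mathlib.Algebra.Group.UniqueProds.Basic

/-!
# Solvability of a linear system over the group algebra of `ℤ^r` from the solvability at the points of finite order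
-/

set_option autoImplicit false
universe u

noncomputable section

namespace K17.Core

open K17.CharPts K17.LinSys

variable {A : Type u} [CommRing A] {r : ℕ}

lemma hom_ext {G : Type*} [CommMonoid G] {D : Type*} [CommRing D] [Algebra A D] {f g : MonoidAlgebra A G →ₐ[A] D}
    (h : ∀ γ : G, f (MonoidAlgebra.single γ 1) = g (MonoidAlgebra.single γ 1)) : f = g :=
  MonoidAlgebra.algHom_ext h (by ext)

/-- the ring homomorphism given by a character -/
abbrev evR (D : Type u) [CommRing D] [Algebra A D] (χ : Γ r →* D) : MonoidAlgebra A (Γ r) →+* D :=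
  (MonoidAlgebra.lift A D (Γ r) χ : MonoidAlgebra A (Γ r) →ₐ[A] D).toRingHom

lemma flat_inf {B C : Type u} [CommRing B] [CommRing C] [Algebra A B] [Algebra A C] [Module.Flat A C] (f : B →ₐ[A] C)
    (hf : Function.Surjective f) (J : Ideal A) :
    J.map (algebraMap A B) ⊓ RingHom.ker f.toRingHom ≤ J.map (algebraMap A B) * RingHom.ker f.toRingHom := by
  rintro x ⟨hx, hx'⟩
  have h1 : x ∈ J • (⊤ : Submodule A B) := by
    rw [Ideal.smul_top_eq_map]
    exact hx
  have h2 := K681.FlatNil.mem_smul_ker J f.toLinearMap hf hx' h1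
  refine Submodule.smul_induction_on h2 ?_ ?_
  · intro s hs z hz
    rw [Algebra.smul_def]
    exact Ideal.mul_mem_mul (Ideal.mem_map_of_mem _ hs) hz
  · intro x y hx hy
    exact add_mem hx hy

lemma mem_map_iff (𝔭 : Ideal A) (h : MonoidAlgebra A (Γ r)) :
    h ∈ 𝔭.map (algebraMap A (MonoidAlgebra A (Γ r))) ↔ ∀ γ, h.coeff γ ∈ 𝔭 := by
  classical
  constructor
  · intro hh
    refine Submodule.span_induction ?_ ?_ ?_ ?_ hh
    · rintro _ ⟨s, hs, rfl⟩ γ
      rw [MonoidAlgebra.coe_algebraMap]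
      simp only [Function.comp_apply, Algebra.algebraMap_self, RingHom.id_apply, MonoidAlgebra.coeff_single]
      rw [Finsupp.single_apply]
      split_ifs
      · exact hs
      · exact zero_mem _
    · intro γ
      exact zero_mem _
    · intro x y _ _ hx hy γ
      exact add_mem (hx γ) (hy γ)
    · intro b x _ hx γ
      rw [smul_eq_mul, MonoidAlgebra.coeff_mul, Finsupp.sum]
      refine sum_mem fun m _ => ?_
      rw [Finsupp.sum]
      refine sum_mem fun m' _ => ?_
      split_ifs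
      · exact Ideal.mul_mem_left _ _ (hx m')
      · exact zero_mem _
  · intro hh
    rw [← h.sum_coeff_single, Finsupp.sum]
    refine sum_mem fun γ _ => ?_
    have h1 : MonoidAlgebra.single γ (h.coeff γ) =
        algebraMap A _ (h.coeff γ) * MonoidAlgebra.single γ 1 := by
      rw [MonoidAlgebra.coe_algebraMap]
      simp only [Function.comp_apply, Algebra.algebraMap_self, RingHom.id_apply, MonoidAlgebra.single_mul_single,
        one_mul, mul_one]
    rw [h1]
    exact Ideal.mul_mem_right _ _ (Ideal.mem_map_of_mem _ (hh γ))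

instance isPrime_map (𝔭 : Ideal A) [𝔭.IsPrime] : (𝔭.map (algebraMap A (MonoidAlgebra A (Γ r)))).IsPrime := by
  have h1 : 𝔭.map (algebraMap A (MonoidAlgebra A (Γ r))) =
      RingHom.ker (MonoidAlgebra.mapRingHom (Γ r) (Ideal.Quotient.mk 𝔭)) := by
    ext h
    rw [mem_map_iff, RingHom.mem_ker]
    constructor
    · intro hh
      ext γ
      rw [MonoidAlgebra.coeff_mapRingHom]
      exact Ideal.Quotient.eq_zero_iff_mem.2 (hh γ)
    · intro hh γ
      have h2 := congrArg (fun z => z.coeff γ) hh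
      simp only [MonoidAlgebra.coeff_mapRingHom] at h2
      exact Ideal.Quotient.eq_zero_iff_mem.1 h2
  rw [h1]
  exact RingHom.ker_isPrime _

variable (A r) in
/-- the group algebra of `ℤ^r / q^k` -/
abbrev Rk (q k : ℕ) := MonoidAlgebra A (Γ r ⧸ (powMonoidHom (q ^ k) : Γ r →* Γ r).range)

variable (A r) in
/-- the universal character killed by `q^k` -/
def χk (q k : ℕ) : Γ r →* Rk A r q k := (MonoidAlgebra.of A _).comp (QuotientGroup.mk' _)

variable (A r) in
/-- `A[ℤ^r] → A[ℤ^r / q^k]` -/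
def πk (q k : ℕ) : MonoidAlgebra A (Γ r) →ₐ[A] Rk A r q k := MonoidAlgebra.lift A _ _ (χk A r q k)

lemma πk_surjective (q k : ℕ) : Function.Surjective (πk A r q k) := by
  intro y
  induction y using MonoidAlgebra.induction_linear with
  | zero => exact ⟨0, map_zero _⟩
  | add a b ha hb =>
    obtain ⟨x, rfl⟩ := ha
    obtain ⟨y, rfl⟩ := hb
    exact ⟨x + y, map_add _ _ _⟩
  | single m s =>
    obtain ⟨γ, rfl⟩ := QuotientGroup.mk_surjective m
    refine ⟨MonoidAlgebra.single γ s, ?_⟩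
    rw [πk, MonoidAlgebra.lift_single]
    simp [χk, MonoidAlgebra.of_apply]

lemma χk_pow (q k : ℕ) (γ : Γ r) : χk A r q k γ ^ (q ^ k) = 1 := by
  rw [← map_pow, χk, MonoidHom.comp_apply]
  have h1 : (QuotientGroup.mk' (powMonoidHom (q ^ k) : Γ r →* Γ r).range) (γ ^ (q ^ k)) = 1 := by
    rw [QuotientGroup.mk'_apply, QuotientGroup.eq_one_iff]
    exact ⟨γ, rfl⟩
  rw [h1, map_one]

/-- Factorization of a character killed by `q^k`. -/
def fac {D : Type u} [CommRing D] {q k : ℕ} (χ : Γ r →* D) (hχ : ∀ γ, χ γ ^ (q ^ k) = 1) :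
    Γ r ⧸ (powMonoidHom (q ^ k) : Γ r →* Γ r).range →* D :=
  QuotientGroup.lift _ χ (by
    rintro _ ⟨γ, rfl⟩
    rw [MonoidHom.mem_ker, powMonoidHom_apply, map_pow, hχ])

lemma fac_mk {D : Type u} [CommRing D] {q k : ℕ} (χ : Γ r →* D) (hχ : ∀ γ, χ γ ^ (q ^ k) = 1) (γ : Γ r) :
    fac χ hχ (QuotientGroup.mk' _ γ) = χ γ := rfl

lemma lift_eq {D : Type u} [CommRing D] [Algebra A D] {q k : ℕ} (χ : Γ r →* D) (hχ : ∀ γ, χ γ ^ (q ^ k) = 1) :
    MonoidAlgebra.lift A D (Γ r) χ = (MonoidAlgebra.lift A D _ (fac χ hχ)).comp (πk A r q k) := by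
  refine hom_ext fun γ => ?_
  rw [MonoidAlgebra.lift_single, AlgHom.comp_apply, πk, MonoidAlgebra.lift_single, one_smul, one_smul, χk,
    MonoidHom.comp_apply, MonoidAlgebra.of_apply, MonoidAlgebra.lift_single, one_smul, fac_mk]

lemma ker_πk_le {D : Type u} [CommRing D] [Algebra A D] {q k : ℕ} (χ : Γ r →* D) (hχ : ∀ γ, χ γ ^ (q ^ k) = 1) :
    RingHom.ker (πk A r q k).toRingHom ≤ RingHom.ker (evR D χ) := by
  intro x hx
  have h1 : πk A r q k x = 0 := hx
  change MonoidAlgebra.lift A D (Γ r) χ x = 0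
  rw [lift_eq χ hχ, AlgHom.comp_apply, h1, map_zero]

/-- A twisted form of the density of the points of `q`-power order. -/
lemma exists_tors_twist {K : Type u} [Field K] [IsAlgClosed K] [Algebra A K] {q : ℕ} (hq : 1 < q)
    (hqK : (q : K) ≠ 0) (χ : Γ r →* K) (h : MonoidAlgebra A (Γ r)) (γ₀ : Γ r) (hγ : algebraMap A K (h.coeff γ₀) ≠ 0) :
    ∃ (k : ℕ) (τ : Γ r →* K), (∀ γ, τ γ ^ (q ^ k) = 1) ∧ MonoidAlgebra.lift A K (Γ r) (χ * τ) h ≠ 0 := by
  classical
  let ψ : Γ r →* MonoidAlgebra K (Γ r) :=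
    { toFun := fun γ => MonoidAlgebra.single γ (χ γ)
      map_one' := by rw [map_one]; rfl
      map_mul' := fun a b => by rw [map_mul, MonoidAlgebra.single_mul_single] }
  have hψ : ∀ (x : MonoidAlgebra A (Γ r)) (γ : Γ r),
      (MonoidAlgebra.lift A (MonoidAlgebra K (Γ r)) (Γ r) ψ x).coeff γ = algebraMap A K (x.coeff γ) * χ γ := by
    intro x γ
    induction x using MonoidAlgebra.induction_linear with
    | zero => simp
    | add a b ha hb => rw [map_add, MonoidAlgebra.coeff_add, Finsupp.add_apply, ha, hb]; simp [add_mul]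
    | single m s =>
      rw [MonoidAlgebra.lift_single]
      change (s • MonoidAlgebra.single m (χ m)).coeff γ = _
      rw [MonoidAlgebra.coeff_smul, Finsupp.smul_apply, MonoidAlgebra.coeff_single, MonoidAlgebra.coeff_single,
        Finsupp.single_apply, Finsupp.single_apply]
      split_ifs with h1
      · rw [h1, Algebra.smul_def]
      · rw [smul_zero, map_zero, zero_mul]
  obtain ⟨k, τ, hτ, hne⟩ := exists_tors hq hqK (MonoidAlgebra.lift A (MonoidAlgebra K (Γ r)) (Γ r) ψ h) (by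
    intro h0
    have h1 := hψ h γ₀
    rw [h0] at h1
    have h2 : χ γ₀ ≠ 0 := ((Group.isUnit γ₀).map χ).ne_zero
    exact mul_ne_zero hγ h2 h1.symm)
  refine ⟨k, τ, hτ, fun h0 => hne ?_⟩
  have h1 : ((MonoidAlgebra.lift K K (Γ r) τ).restrictScalars A).comp
      (MonoidAlgebra.lift A (MonoidAlgebra K (Γ r)) (Γ r) ψ) = MonoidAlgebra.lift A K (Γ r) (χ * τ) := by
    refine hom_ext fun γ => ?_
    rw [MonoidAlgebra.lift_single, AlgHom.comp_apply, MonoidAlgebra.lift_single, one_smul, one_smul]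
    change MonoidAlgebra.lift K K (Γ r) τ (MonoidAlgebra.single γ (χ γ)) = _
    rw [MonoidAlgebra.lift_single]
    rfl
  have h2 := AlgHom.congr_fun h1 h
  rw [h0] at h2
  exact h2

lemma exists_algClosed (𝔭 : Ideal A) [𝔭.IsPrime] :
    ∃ (K : Type u) (_ : Field K) (_ : IsAlgClosed K) (f : A →+* K), RingHom.ker f = 𝔭 := by
  refine ⟨AlgebraicClosure (FractionRing (A ⧸ 𝔭)), inferInstance, inferInstance,
    ((algebraMap (FractionRing (A ⧸ 𝔭)) (AlgebraicClosure (FractionRing (A ⧸ 𝔭)))).comp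
      (algebraMap (A ⧸ 𝔭) (FractionRing (A ⧸ 𝔭)))).comp (Ideal.Quotient.mk 𝔭), ?_⟩
  rw [← RingHom.comap_ker, (RingHom.injective_iff_ker_eq_bot _).1, ← RingHom.ker_eq_comap_bot, Ideal.mk_ker]
  rw [RingHom.coe_comp]
  exact (RingHom.injective _).comp (IsFractionRing.injective _ _)

variable (r) in
/-- the ideal of the group algebra generated by an ideal of the base -/
abbrev IJ (J : Ideal A) : Ideal (MonoidAlgebra A (Γ r)) := J.map (algebraMap A (MonoidAlgebra A (Γ r)))

lemma sol_of_mem_ann {R : Type u} [CommRing R] {I : Ideal R} {m n : ℕ} {c : Fin m → Fin n → R} {a : Fin m → R} {h : R}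
    (hh : h ∈ ann I c a) {D : Type u} [CommRing D] (φ : R →+* D) (hu : IsUnit (φ h)) : Sol I c a D φ := by
  obtain ⟨x, hx, hx'⟩ := hh
  obtain ⟨u, hu⟩ := hu
  refine ⟨fun i => ↑u⁻¹ * φ (x i), fun i => Ideal.mul_mem_left _ _ (Ideal.mem_map_of_mem φ (hx i)), fun j => ?_⟩
  have h1 : ∑ i, φ (c j i) * (↑u⁻¹ * φ (x i)) = ↑u⁻¹ * φ (∑ i, c j i * x i) := by
    rw [map_sum, Finset.mul_sum]
    refine Finset.sum_congr rfl fun i _ => ?_
    rw [map_mul]
    ring
  rw [h1, hx', map_mul, ← hu, ← mul_assoc, Units.inv_mul, one_mul]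

lemma sol_quotient {R : Type u} [CommRing R] {I : Ideal R} {m n : ℕ} {c : Fin m → Fin n → R} {a : Fin m → R}
    {D : Type u} [CommRing D] (φ : R →+* D) (hφ : Function.Surjective φ) (h : Sol I c a D φ) :
    Sol I c a (R ⧸ RingHom.ker φ) (Ideal.Quotient.mk (RingHom.ker φ)) := by
  have h1 := h.map I c a (RingHom.quotientKerEquivOfSurjective hφ).symm.toRingHom
  have h2 : (RingHom.quotientKerEquivOfSurjective hφ).symm.toRingHom.comp φ = Ideal.Quotient.mk (RingHom.ker φ) := by
    ext x : 1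
    rw [RingHom.comp_apply]
    change (RingHom.quotientKerEquivOfSurjective hφ).symm (φ x) = _
    rw [RingEquiv.symm_apply_eq]
    rfl
  rwa [h2] at h1

lemma isNoetherianRing [IsNoetherianRing A] : IsNoetherianRing (MonoidAlgebra A (Γ r)) :=
  Algebra.FiniteType.isNoetherianRing A _

section Main

variable [IsNoetherianRing A] {q : ℕ} {J : Ideal A} {m n : ℕ}
  {c : Fin m → Fin n → MonoidAlgebra A (Γ r)} {a : Fin m → MonoidAlgebra A (Γ r)}

lemma exists_mem_ann (hq : 1 < q) (hqA : IsUnit (q : A)) (ha : ∀ j, a j ∈ IJ r J)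
    (Htors : ∀ (D : Type u) [CommRing D] [Algebra A D] (χ : Γ r →* D) (k : ℕ), (∀ γ, χ γ ^ (q ^ k) = 1) →
      Sol (IJ r J) c a D (evR D χ))
    (𝔭 : Ideal A) [𝔭.IsPrime] : ∃ h ∈ ann (IJ r J) c a, h ∉ IJ r 𝔭 := by
  have := isNoetherianRing (A := A) (r := r)
  have H := GenVan.exists_smul_eq_zero (η := IJ r 𝔭) (𝔞 := fun k : ℕ => RingHom.ker (πk A r q k).toRingHom)
    (fun k => flat_inf _ (πk_surjective q k) 𝔭) ?_ (ob (IJ r J) c a ha) ?_
  · obtain ⟨h, hh, hh'⟩ := H
    exact ⟨h, (smul_ob_eq_zero_iff _ _ ha h).1 hh', hh⟩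
  · intro h hh
    obtain ⟨K, _, _, f, hf⟩ := exists_algClosed 𝔭
    let _ := f.toAlgebra
    rw [mem_map_iff] at hh
    push Not at hh
    obtain ⟨γ₀, hγ₀⟩ := hh
    have hqK : (q : K) ≠ 0 := by
      have h1 := hqA.map f
      rw [map_natCast] at h1
      exact h1.ne_zero
    obtain ⟨k, τ, hτ, hne⟩ := exists_tors_twist (A := A) hq hqK 1 h γ₀ (by
      rw [← hf, RingHom.mem_ker] at hγ₀
      exact hγ₀)
    rw [one_mul] at hne
    refine ⟨k, fun hmem => ?_⟩
    have h2 : (IJ r 𝔭 ⊔ RingHom.ker (πk A r q k).toRingHom).radical ≤ RingHom.ker (evR K τ) := by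
      rw [Ideal.IsRadical.radical_le_iff (RingHom.ker_isPrime _).isRadical, sup_le_iff]
      refine ⟨?_, ker_πk_le τ hτ⟩
      rw [Ideal.map_le_iff_le_comap]
      intro s hs
      rw [Ideal.mem_comap, RingHom.mem_ker]
      change MonoidAlgebra.lift A K (Γ r) τ (algebraMap A _ s) = 0
      rw [AlgHom.commutes]
      rw [← hf, RingHom.mem_ker] at hs
      exact hs
    exact hne (h2 hmem)
  · intro k
    exact ob_mem_smul (IJ r J) c ha (RingHom.ker (πk A r q k).toRingHom)
      ((flat_inf (πk A r q k) (πk_surjective q k) J).trans (mul_comm _ _).le)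
      (sol_quotient (πk A r q k).toRingHom (πk_surjective q k) (Htors (Rk A r q k) (χk A r q k) k (χk_pow q k)))

omit [IsNoetherianRing A] in
lemma flat_ev_inl {G H : Type} [CommGroup G] [CommGroup H] :
    (MonoidAlgebra.mapDomainRingHom A (MonoidHom.inl G H)).Flat := by
  have h1 : Function.Injective (MonoidHom.inl G H) := fun x y h => congrArg Prod.fst h
  have h2 := K7.GrpAlgFree.free_of_injective (R := A) (MonoidHom.inl G H) h1
  let _ := (MonoidAlgebra.mapDomainRingHom A (MonoidHom.inl G H)).toAlgebra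
  have h3 : Module.Flat (MonoidAlgebra A G) (MonoidAlgebra A (G × H)) := inferInstance
  exact h3

/-- **The core theorem.** -/
theorem ann_eq_top (hq : 1 < q) (hqA : IsUnit (q : A)) (ha : ∀ j, a j ∈ IJ r J)
    (Htors : ∀ (D : Type u) [CommRing D] [Algebra A D] (χ : Γ r →* D) (k : ℕ), (∀ γ, χ γ ^ (q ^ k) = 1) →
      Sol (IJ r J) c a D (evR D χ))
    (Hmul : ∀ (D : Type u) [CommRing D] [Algebra A D] (χ χ' : Γ r →* D), Sol (IJ r J) c a D (evR D χ) →
      Sol (IJ r J) c a D (evR D χ') → Sol (IJ r J) c a D (evR D (χ * χ'))) :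
    ann (IJ r J) c a = ⊤ := by
  classical
  rw [← sol_self_iff]
  refine sol_of_local _ _ _ fun 𝔮 h𝔮 => ?_
  obtain ⟨K, _, _, κ, hκ⟩ := exists_algClosed 𝔮
  let _ : Algebra A K := (κ.comp (algebraMap A (MonoidAlgebra A (Γ r)))).toAlgebra
  let χ : Γ r →* K := (κ : MonoidAlgebra A (Γ r) →* K).comp (MonoidAlgebra.of A (Γ r))
  have hκχ : evR K χ = κ := by
    let κ' : MonoidAlgebra A (Γ r) →ₐ[A] K := { κ with commutes' := fun _ => rfl }
    have h1 : MonoidAlgebra.lift A K (Γ r) χ = κ' := by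
      refine hom_ext fun γ => ?_
      rw [MonoidAlgebra.lift_single, one_smul]
      rfl
    exact congrArg AlgHom.toRingHom h1
  obtain ⟨h, hh, hh'⟩ := exists_mem_ann hq hqA ha Htors (𝔮.comap (algebraMap A (MonoidAlgebra A (Γ r))))
  rw [mem_map_iff] at hh'
  push Not at hh'
  obtain ⟨γ₀, hγ₀⟩ := hh'
  have hqK : (q : K) ≠ 0 := by
    have h1 := hqA.map (algebraMap A K)
    rw [map_natCast] at h1
    exact h1.ne_zero
  obtain ⟨k, τ, hτ, hne⟩ := exists_tors_twist (A := A) hq hqK χ h γ₀ (by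
    rw [Ideal.mem_comap, ← hκ, RingHom.mem_ker] at hγ₀
    exact hγ₀)
  let N := (powMonoidHom (q ^ k) : Γ r →* Γ r).range
  let f₁ : Γ r →* Γ r × (Γ r ⧸ N) := (MonoidHom.id _).prod (QuotientGroup.mk' N)
  let f₂ : Γ r →* Γ r × (Γ r ⧸ N) := (1 : Γ r →* Γ r).prod (invMonoidHom.comp (QuotientGroup.mk' N))
  let W₀ := MonoidAlgebra A (Γ r × (Γ r ⧸ N))
  let Δ : MonoidAlgebra A (Γ r) →ₐ[A] W₀ := MonoidAlgebra.lift A W₀ (Γ r) ((MonoidAlgebra.of A _).comp f₁)
  let W := Localization.Away (Δ h)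
  let o : Γ r × (Γ r ⧸ N) →* W := (algebraMap W₀ W : W₀ →* W).comp (MonoidAlgebra.of A _)
  have hev : ∀ f : Γ r →* Γ r × (Γ r ⧸ N), evR W (o.comp f) =
      (algebraMap W₀ W).comp (MonoidAlgebra.lift A W₀ (Γ r) ((MonoidAlgebra.of A _).comp f)).toRingHom := by
    intro f
    have h1 : MonoidAlgebra.lift A W (Γ r) (o.comp f) = (IsScalarTower.toAlgHom A W₀ W).comp
        (MonoidAlgebra.lift A W₀ (Γ r) ((MonoidAlgebra.of A _).comp f)) := by
      refine hom_ext fun γ => ?_
      rw [MonoidAlgebra.lift_single, one_smul, AlgHom.comp_apply, MonoidAlgebra.lift_single, one_smul]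
      rfl
    exact congrArg AlgHom.toRingHom h1
  have hs1 : Sol (IJ r J) c a W (evR W (o.comp f₁)) := by
    refine sol_of_mem_ann hh _ ?_
    rw [hev]
    exact IsLocalization.Away.algebraMap_isUnit (Δ h)
  have hs2 : Sol (IJ r J) c a W (evR W (o.comp f₂)) := by
    refine Htors W (o.comp f₂) k fun γ => ?_
    rw [← map_pow, MonoidHom.comp_apply]
    have h1 : f₂ (γ ^ (q ^ k)) = 1 := by
      have h2 : QuotientGroup.mk' N (γ ^ (q ^ k)) = 1 := by
        rw [QuotientGroup.mk'_apply, QuotientGroup.eq_one_iff]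
        exact ⟨γ, rfl⟩
      refine Prod.ext rfl ?_
      change (QuotientGroup.mk' N (γ ^ (q ^ k)))⁻¹ = 1
      rw [h2, inv_one]
    rw [h1, map_one]
  have hs3 := Hmul W _ _ hs1 hs2
  have h3 : o.comp f₁ * o.comp f₂ = o.comp (MonoidHom.inl _ _) := by
    refine DFunLike.ext _ _ fun γ => ?_
    change o (f₁ γ) * o (f₂ γ) = o (MonoidHom.inl _ _ γ)
    rw [← map_mul]
    congr 1
    refine Prod.ext (mul_one _) ?_
    exact mul_inv_cancel _
  rw [h3] at hs3
  have h4 : (MonoidAlgebra.lift A W₀ (Γ r) ((MonoidAlgebra.of A _).comp (MonoidHom.inl _ _))).toRingHom =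
      MonoidAlgebra.mapDomainRingHom A (MonoidHom.inl (Γ r) (Γ r ⧸ N)) := by
    have h5 : MonoidAlgebra.lift A W₀ (Γ r) ((MonoidAlgebra.of A _).comp (MonoidHom.inl _ _)) =
        MonoidAlgebra.mapDomainAlgHom A A (MonoidHom.inl (Γ r) (Γ r ⧸ N)) := by
      refine hom_ext fun γ => ?_
      rw [MonoidAlgebra.lift_single, one_smul, MonoidHom.comp_apply, MonoidAlgebra.of_apply]
      exact (MonoidAlgebra.mapDomain_single).symm
    rw [h5]
    rfl
  have hflat : (evR (A := A) W (o.comp (MonoidHom.inl _ _))).Flat := by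
    rw [hev, h4]
    refine RingHom.Flat.comp (f := MonoidAlgebra.mapDomainRingHom A (MonoidHom.inl (Γ r) (Γ r ⧸ N)))
      (g := algebraMap W₀ W) flat_ev_inl ?_
    have h9 : Module.Flat W₀ W := IsLocalization.flat (R := W₀) W (Submonoid.powers (Δ h))
    exact (RingHom.flat_algebraMap_iff (R := W₀) (S := W)).2 h9
  -- the point
  let κ₀ : W₀ →ₐ[A] K := MonoidAlgebra.lift A K _ (χ.coprod (fac τ hτ))
  have h5 : κ₀.comp Δ = MonoidAlgebra.lift A K (Γ r) (χ * τ) := by
    refine hom_ext fun γ => ?_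
    rw [AlgHom.comp_apply, MonoidAlgebra.lift_single, MonoidAlgebra.lift_single, one_smul, one_smul,
      MonoidHom.comp_apply, MonoidAlgebra.of_apply, MonoidAlgebra.lift_single, one_smul]
    rfl
  have h6 : IsUnit (κ₀.toRingHom (Δ h)) := by
    have h7 := AlgHom.congr_fun h5 h
    refine isUnit_iff_ne_zero.2 fun h8 => hne ?_
    rw [← h7]
    exact h8
  let κ₁ : W →+* K := IsLocalization.Away.lift (Δ h) h6
  have h7 : κ₁.comp (evR (A := A) W (o.comp (MonoidHom.inl _ _))) = κ := by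
    rw [hev, ← RingHom.comp_assoc, IsLocalization.Away.lift_comp, ← hκχ]
    have h8 : κ₀.comp (MonoidAlgebra.lift A W₀ (Γ r) ((MonoidAlgebra.of A _).comp (MonoidHom.inl _ _))) =
        MonoidAlgebra.lift A K (Γ r) χ := by
      refine hom_ext fun γ => ?_
      rw [AlgHom.comp_apply, MonoidAlgebra.lift_single, MonoidAlgebra.lift_single, one_smul, one_smul,
        MonoidHom.comp_apply, MonoidAlgebra.of_apply, MonoidAlgebra.lift_single, one_smul]
      rw [MonoidHom.coprod_apply]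
      simp
    exact congrArg AlgHom.toRingHom h8
  have h8 := not_ann_le (IJ r J) c a _ hflat hs3 (RingHom.ker κ₁) (RingHom.ker_ne_top κ₁)
  rwa [RingHom.comap_ker, h7, hκ] at h8

end Main

end K17.Core
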