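import Groth.Agent.SGA3x.K17.LiftP
import Groth.Agent.SGA3x.K17.Core
import Groth.Agent.SGA3x.K21.FlatSub
import Groth.Agent.Sga3B.TorusEtLoc920

/-!
# Lifting a homomorphism out of a torus from its lifts at the torsion points
-/

set_option autoImplicit false
universe u
open CategoryTheory MonoidalCategory CartesianMonoidalCategory MonObj GrpObj AlgebraicGeometry Limits

namespace K17.Chart

open Groth.Agent K17.NilLift K17.LinSys K17.LiftP K17.CharPts K17.Core
open Groth.Agent.Sga3B.InfConj Groth.Agent.Sga3B.BcPts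

section pts

variable {A A₁ : Type u} [CommRing A] [CommRing A₁] [Algebra A A₁]

/-- the morphism given by an algebra -/
noncomputable abbrev vA (A A₁ : Type u) [CommRing A] [CommRing A₁] [Algebra A A₁] :
    Spec (CommRingCat.of A₁) ⟶ Spec (CommRingCat.of A) := Spec.map (CommRingCat.ofHom (algebraMap A A₁))

variable {T : Over (Spec (CommRingCat.of A))} [GrpObj T] {r : ℕ}
  (E : Red.bc (vA A A₁) T ≅ Red.DS (Spec (CommRingCat.of A₁)) (Fin r → ℤ))

/-- `Spec D` over `Spec A` for an `A₁`-algebra `D`. -/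
noncomputable def θ (D : Type u) [CommRing D] [Algebra A₁ D] [Algebra A D] [IsScalarTower A A₁ D] :
    pt A D ≅ (Over.map (vA A A₁)).obj (pt A₁ D) :=
  Over.isoMk (Iso.refl _) (by
    change 𝟙 _ ≫ Spec.map (CommRingCat.ofHom (algebraMap A₁ D)) ≫ Spec.map (CommRingCat.ofHom (algebraMap A A₁)) =
      Spec.map (CommRingCat.ofHom (algebraMap A D))
    rw [Category.id_comp, ← Spec.map_comp, ← CommRingCat.ofHom_comp, ← IsScalarTower.algebraMap_eq])

lemma ptMap_θ {D D' : Type u} [CommRing D] [Algebra A₁ D] [Algebra A D] [IsScalarTower A A₁ D]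
    [CommRing D'] [Algebra A₁ D'] [Algebra A D'] [IsScalarTower A A₁ D'] (g : D →ₐ[A₁] D') :
    ptMap (g.restrictScalars A) ≫ (θ (A := A) (A₁ := A₁) D).hom =
      (θ (A := A) (A₁ := A₁) D').hom ≫ (Over.map (vA A A₁)).map (ptMap g) := by
  ext1
  change Spec.map (CommRingCat.ofHom (g.restrictScalars A).toRingHom) ≫ 𝟙 _ =
    𝟙 _ ≫ Spec.map (CommRingCat.ofHom g.toRingHom)
  rw [Category.comp_id, Category.id_comp]
  rfl

/-- the point of `T` given by a character -/
noncomputable def τ {D : Type u} [CommRing D] [Algebra A₁ D] [Algebra A D] [IsScalarTower A A₁ D]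
    (χ : Γ r →* D) : pt A D ⟶ T :=
  (θ (A := A) (A₁ := A₁) D).hom ≫ (bcEquiv (vA A A₁) (pt A₁ D) T).symm (charPt χ ≫ E.inv)

lemma τ_mul [IsMonHom E.inv] {D : Type u} [CommRing D] [Algebra A₁ D] [Algebra A D] [IsScalarTower A A₁ D]
    (χ χ' : Γ r →* D) : τ E (χ * χ') = τ E χ * τ E χ' := by
  rw [τ, τ, τ, charPt_mul, MonObj.mul_comp, ← MonObj.comp_mul]
  congr 1
  exact (bcMulEquiv (vA A A₁) _ T).symm.map_mul _ _

omit [GrpObj T] in
lemma ptMap_τ {D D' : Type u} [CommRing D] [Algebra A₁ D] [Algebra A D] [IsScalarTower A A₁ D]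
    [CommRing D'] [Algebra A₁ D'] [Algebra A D'] [IsScalarTower A A₁ D'] (g : D →ₐ[A₁] D') (χ : Γ r →* D) :
    ptMap (g.restrictScalars A) ≫ τ E χ = τ E ((g : D →* D').comp χ) := by
  rw [τ, τ, ← Category.assoc, ptMap_θ, Category.assoc, ← comp_bcEquiv_symm, ← Category.assoc, ptMap_charPt]

/-- The universal point, a chart. -/
noncomputable def un (A A₁ : Type u) [CommRing A] [CommRing A₁] [Algebra A A₁] {T : Over (Spec (CommRingCat.of A))}
    {r : ℕ} (E : Red.bc (vA A A₁) T ≅ Red.DS (Spec (CommRingCat.of A₁)) (Fin r → ℤ)) :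
    pt A (MonoidAlgebra A₁ (Γ r)) ⟶ T := τ E (MonoidAlgebra.of A₁ (Γ r))

omit [GrpObj T] in
lemma un_left :
    (un A A₁ E).left = (univPt A₁ (Fin r → ℤ) ≫ E.inv).left ≫ pullback.fst T.hom (vA A A₁) := by
  change 𝟙 _ ≫ ((bcEquiv (vA A A₁) (pt A₁ (MonoidAlgebra A₁ (Γ r))) T).symm
    (charPt (MonoidAlgebra.of A₁ (Γ r)) ≫ E.inv)).left = _
  rw [Category.id_comp, bcEquiv, Adjunction.homEquiv_counit, Over.mapPullbackAdj_counit_app, Over.comp_left]
  rfl

omit [GrpObj T] in
lemma lift_un {D : Type u} [CommRing D] [Algebra A₁ D] [Algebra A D] [IsScalarTower A A₁ D] (χ : Γ r →* D) :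
    ptMap ((MonoidAlgebra.lift A₁ D (Γ r) χ).restrictScalars A) ≫ un A A₁ E = τ E χ := by
  rw [un, ptMap_τ]
  congr 1
  refine DFunLike.ext _ _ fun γ => ?_
  rw [MonoidHom.comp_apply]
  exact (MonoidAlgebra.lift_single _ _ _).trans (one_smul _ _)

end pts

lemma sol_map_iff {R R₁ D : Type u} [CommRing R] [CommRing R₁] [CommRing D] (I : Ideal R) {m n : ℕ}
    (c : Fin m → Fin n → R) (a : Fin m → R) (f : R →+* R₁) (ψ : R₁ →+* D) :
    Sol (I.map f) (fun j i => f (c j i)) (fun j => f (a j)) D ψ ↔ Sol I c a D (ψ.comp f) := by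
  rw [Sol, Sol, Ideal.map_map]
  rfl

lemma exists_ptMap {A D R : Type u} [CommRing A] [CommRing D] [CommRing R] [Algebra A D] [Algebra A R]
    (t : pt A D ⟶ pt A R) : ∃ f : R →ₐ[A] D, t = ptMap f := by
  obtain ⟨f, hf⟩ := Spec.map_surjective (R := CommRingCat.of R) (S := CommRingCat.of D) t.left
  refine ⟨{ f.hom with commutes' := fun a => ?_ }, ?_⟩
  · have h1 : CommRingCat.ofHom (algebraMap A R) ≫ f = CommRingCat.ofHom (algebraMap A D) := by
      apply Spec.map_injective
      rw [Spec.map_comp, hf]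
      exact Over.w t
    exact congrArg (fun z => z.hom a) h1
  · ext1
    exact hf.symm

variable {A : Type u} [CommRing A] {J : Ideal A}

/-- **The local step.** -/
theorem exists_chart [IsNoetherianRing A] {T G : Over (Spec (CommRingCat.of A))} [GrpObj T] [GrpObj G]
    (φ : (Over.pullback (cl J)).obj T ⟶ (Over.pullback (cl J)).obj G) [IsMonHom φ]
    {q : ℕ} (hq : 1 < q) (hqA : IsUnit (q : A))
    (Htors : ∀ (k : ℕ) (X : Over (Spec (CommRingCat.of A))) (t : X ⟶ T), t ^ (q ^ k) = 1 → Lif φ t)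
    {R : Type u} [CommRing R] [Algebra A R] (e : T ≅ pt A R) {m n : ℕ} (c : Fin m → Fin n → R) (a : Fin m → R)
    (ha : ∀ j, a j ∈ J.map (algebraMap A R))
    (hsys : ∀ (D : Type u) [CommRing D] [Algebra A D] (f : R →ₐ[A] D),
      Sol (J.map (algebraMap A R)) c a D f.toRingHom ↔ Lif φ (ptMap f ≫ e.inv))
    {A₁ : Type u} [CommRing A₁] [Algebra A A₁] [Algebra.FiniteType A A₁] {r : ℕ}
    (E : Red.bc (vA A A₁) T ≅ Red.DS (Spec (CommRingCat.of A₁)) (Fin r → ℤ)) [IsMonHom E.inv]
    (f₁ : R →ₐ[A] MonoidAlgebra A₁ (Γ r)) (hf₁ : un A A₁ E ≫ e.hom = ptMap f₁) :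
    Sol (J.map (algebraMap A R)) c a (MonoidAlgebra A₁ (Γ r)) f₁.toRingHom := by
  have hA₁ : IsNoetherianRing A₁ := Algebra.FiniteType.isNoetherianRing A A₁
  have hI : IJ r (J.map (algebraMap A A₁)) = (J.map (algebraMap A R)).map f₁.toRingHom := by
    rw [IJ, Ideal.map_map, Ideal.map_map]
    congr 1
    refine RingHom.ext fun x => ?_
    exact (f₁.commutes x).symm
  have key : ∀ (D : Type u) [CommRing D] [Algebra A₁ D] [Algebra A D] [IsScalarTower A A₁ D] (χ : Γ r →* D),
      Sol (IJ r (J.map (algebraMap A A₁))) (fun j i => f₁.toRingHom (c j i)) (fun j => f₁.toRingHom (a j)) D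
        (evR D χ) ↔ Lif φ (τ E χ) := by
    intro D _ _ _ _ χ
    rw [hI, sol_map_iff]
    have h1 := hsys D (((MonoidAlgebra.lift A₁ D (Γ r) χ).restrictScalars A).comp f₁)
    have h2 : ptMap (((MonoidAlgebra.lift A₁ D (Γ r) χ).restrictScalars A).comp f₁) ≫ e.inv = τ E χ := by
      rw [← ptMap_comp, ← hf₁, Category.assoc, Category.assoc, Iso.hom_inv_id, Category.comp_id, lift_un]
    rw [h2] at h1
    exact h1
  have h := ann_eq_top (A := A₁) (r := r) (J := J.map (algebraMap A A₁)) (c := fun j i => f₁.toRingHom (c j i))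
    (a := fun j => f₁.toRingHom (a j)) hq (by
      have := hqA.map (algebraMap A A₁)
      rwa [map_natCast] at this) (fun j => by
      rw [hI]
      exact Ideal.mem_map_of_mem _ (ha j)) ?_ ?_
  · rw [← sol_self_iff, hI, sol_map_iff] at h
    exact h
  · intro D _ _ χ k hχ
    let _ : Algebra A D := ((algebraMap A₁ D).comp (algebraMap A A₁)).toAlgebra
    have : IsScalarTower A A₁ D := IsScalarTower.of_algebraMap_eq fun _ => rfl
    rw [key D χ]
    refine Htors k _ _ ?_
    have hτ : ∀ n : ℕ, τ E χ ^ n = τ E (χ ^ n) := by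
      intro n
      induction n with
      | zero =>
        rw [pow_zero, pow_zero]
        have h1 := τ_mul E (1 : Γ r →* D) 1
        rw [_root_.one_mul] at h1
        exact (left_eq_mul.1 h1).symm
      | succ n ih => rw [pow_succ, pow_succ, ih, τ_mul]
    have h1 : χ ^ (q ^ k) = 1 := by
      refine DFunLike.ext _ _ fun γ => ?_
      rw [MonoidHom.pow_apply, hχ, MonoidHom.one_apply]
    have h2 := hτ 0
    rw [pow_zero, pow_zero] at h2
    rw [hτ, h1, h2]
  · intro D _ _ χ χ' h1 h2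
    let _ : Algebra A D := ((algebraMap A₁ D).comp (algebraMap A A₁)).toAlgebra
    have : IsScalarTower A A₁ D := IsScalarTower.of_algebraMap_eq fun _ => rfl
    rw [key D] at h1 h2 ⊢
    rw [τ_mul]
    exact h1.mul φ h2

/-- The chart is flat and its image contains the fibres over the image of the base. -/
theorem chart_flat {T : Over (Spec (CommRingCat.of A))} {R : Type u} [CommRing R] [Algebra A R] (e : T ≅ pt A R)
    {A₁ : Type u} [CommRing A₁] [Algebra A A₁] (hv : Flat (vA A A₁)) {r : ℕ}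
    (E : Red.bc (vA A A₁) T ≅ Red.DS (Spec (CommRingCat.of A₁)) (Fin r → ℤ))
    (f₁ : R →ₐ[A] MonoidAlgebra A₁ (Γ r)) (hf₁ : un A A₁ E ≫ e.hom = ptMap f₁) :
    f₁.toRingHom.Flat ∧ ∀ x : Spec (CommRingCat.of R), Spec.map (CommRingCat.ofHom (algebraMap A R)) x ∈ Set.range (vA A A₁) →
      x ∈ Set.range (Spec.map (CommRingCat.ofHom f₁.toRingHom)) := by
  have i1 : IsIso (univPt A₁ (Fin r → ℤ) ≫ E.inv).left := by
    have : IsIso (univPt A₁ (Fin r → ℤ)) := K21.FlatSub.isIso_univPt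
    exact inferInstanceAs (IsIso ((Over.forget _).map (univPt A₁ (Fin r → ℤ) ≫ E.inv)))
  have i2 : IsIso e.hom.left := inferInstanceAs (IsIso ((Over.forget _).map e.hom))
  have h1 : Spec.map (CommRingCat.ofHom f₁.toRingHom) =
      ((univPt A₁ (Fin r → ℤ) ≫ E.inv).left ≫ pullback.fst T.hom (vA A A₁)) ≫ e.hom.left := by
    rw [← un_left, ← Over.comp_left, hf₁]
    rfl
  constructor
  · have h2 : Flat (Spec.map (CommRingCat.ofHom f₁.toRingHom)) := by
      rw [h1]
      infer_instance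
    exact (HasRingHomProperty.Spec_iff (P := @Flat)).1 h2
  · intro x hx
    obtain ⟨t, ht⟩ := e.hom.left.surjective x
    have h3 : t ∈ Set.range (pullback.fst T.hom (vA A A₁)) := by
      rw [Scheme.Pullback.range_fst]
      change T.hom t ∈ Set.range (vA A A₁)
      have h4 : e.hom.left ≫ Spec.map (CommRingCat.ofHom (algebraMap A R)) = T.hom := Over.w e.hom
      rw [← h4, Scheme.Hom.comp_apply, ht]
      exact hx
    obtain ⟨z, hz⟩ := h3
    obtain ⟨w, hw⟩ := (univPt A₁ (Fin r → ℤ) ≫ E.inv).left.surjective z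
    refine ⟨w, ?_⟩
    rw [h1, Scheme.Hom.comp_apply, Scheme.Hom.comp_apply, hw, hz, ht]

/-- **Lifting a homomorphism out of a torus from its lifts at the torsion points.** -/
theorem lif_id [IsNoetherianRing A] (hJ : J ^ 2 = ⊥) {T G : Over (Spec (CommRingCat.of A))} [GrpObj T] [GrpObj G]
    [LocallyOfFiniteType G.hom] (hT : Red.IsTorus T)
    (φ : (Over.pullback (cl J)).obj T ⟶ (Over.pullback (cl J)).obj G) [IsMonHom φ]
    {q : ℕ} (hq : 1 < q) (hqA : IsUnit (q : A))
    (Htors : ∀ (k : ℕ) (X : Over (Spec (CommRingCat.of A))) (t : X ⟶ T), t ^ (q ^ k) = 1 → Lif φ t) :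
    Lif φ (𝟙 T) := by
  have haffh : IsAffineHom T.hom := Sga3B.TorusAlgClosed.isAffineHom_of_isTorus hT
  have hsm : Smooth T.hom := Sga3B.TorusAlgClosed.smooth_of_isTorus hT
  have haff : IsAffine T.left := isAffine_of_isAffineHom T.hom
  obtain ⟨R, _, _, ⟨e⟩⟩ := exists_pt_iso T
  have hR : IsNoetherianRing R := by
    have h1 : LocallyOfFiniteType (pt A R).hom := by
      rw [← Over.w e.inv]
      have : IsIso e.inv.left := inferInstanceAs (IsIso ((Over.forget _).map e.inv))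
      infer_instance
    have h2 : LocallyOfFiniteType (Spec.map (CommRingCat.ofHom (algebraMap A R))) := h1
    rw [HasRingHomProperty.Spec_iff (P := @LocallyOfFiniteType)] at h2
    simp only [CommRingCat.hom_ofHom] at h2
    have h3 : Algebra.FiniteType A R := RingHom.finiteType_algebraMap.1 h2
    exact Algebra.FiniteType.isNoetherianRing A R
  obtain ⟨m, n, c, a, ha, hsys⟩ := exists_system hJ ((Over.pullback (cl J)).map e.inv ≫ φ)
  have hsys' : ∀ (D : Type u) [CommRing D] [Algebra A D] (f : R →ₐ[A] D),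
      Sol (J.map (algebraMap A R)) c a D f.toRingHom ↔ Lif φ (ptMap f ≫ e.inv) := by
    intro D _ _ f
    rw [hsys D f, Lif.of_iso φ e, Category.assoc, Iso.inv_hom_id, Category.comp_id]
  have hid : Sol (J.map (algebraMap A R)) c a R (RingHom.id R) := by
    refine sol_of_local _ _ _ fun 𝔮 h𝔮 => ?_
    let x : Spec (CommRingCat.of R) := ⟨𝔮, h𝔮.isPrime⟩
    obtain ⟨A₁, _, v, r, hv, hs, ⟨E'⟩⟩ := Sga3B.TorusEtLoc920.exists_etale_split T hT
      (Spec.map (CommRingCat.ofHom (algebraMap A R)) x)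
    obtain ⟨v', rfl⟩ := Spec.map_surjective (R := CommRingCat.of A) (S := CommRingCat.of A₁) v
    let _ : Algebra A A₁ := v'.hom.toAlgebra
    have hft : Algebra.FiniteType A A₁ := by
      have h1 : LocallyOfFiniteType (Spec.map v') := inferInstance
      exact (HasRingHomProperty.Spec_iff (P := @LocallyOfFiniteType)).1 h1
    let E : Red.bc (vA A A₁) T ≅ Red.DS (Spec (CommRingCat.of A₁)) (Fin r → ℤ) := (Grp.forget _).mapIso E'
    have hE : IsMonHom E.inv := E'.inv.hom.isMonHom_hom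
    obtain ⟨f₁, hf₁⟩ := exists_ptMap (un A A₁ E ≫ e.hom)
    have hfl : Flat (vA A A₁) := inferInstanceAs (Flat (Spec.map v'))
    obtain ⟨h1, h2⟩ := chart_flat e hfl E f₁ hf₁
    have h3 := exists_chart φ hq hqA Htors e c a ha hsys' E f₁ hf₁
    obtain ⟨w, hw⟩ := h2 x hs
    have h4 := not_ann_le _ c a _ h1 h3 w.asIdeal w.isPrime.ne_top
    have h5 : w.asIdeal.comap f₁.toRingHom = 𝔮 := congrArg PrimeSpectrum.asIdeal hw
    rwa [h5] at h4
  have h6 := (hsys' R (AlgHom.id A R)).1 hid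
  rw [ptMap_id, Category.id_comp] at h6
  have h7 := h6.comp φ e.hom
  rwa [Iso.hom_inv_id] at h7

end K17.Chart
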