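import Groth.Agent.Sga7.H751.PowEtale
import Groth.Agent.SGA3x.K13.NTorsion
import Groth.Agent.Sga3B.TorusAlgClosed

/-!
# The `n`-torsion of a torus, `n` invertible on the base, is étale
-/

set_option autoImplicit false
universe u
open CategoryTheory MonoidalCategory CartesianMonoidalCategory MonObj GrpObj AlgebraicGeometry Limits

namespace K17.TorsKer

open Groth.Agent K13.NTorsion

variable {S : Scheme.{u}}

lemma isKernel_of_isTors {n : ℕ} {L H : Over S} [GrpObj L] [GrpObj H] {ℓ : L ⟶ H} (h : IsTors n ℓ) :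
    AlgGrp.IsKernel ℓ ((𝟙 H : H ⟶ H) ^ n) := by
  have := h.mono
  have hc : ∀ {X : Over S} (x : X ⟶ H), x ≫ ((𝟙 H : H ⟶ H) ^ n) = x ^ n := by
    intro X x
    rw [MonObj.comp_pow, Category.comp_id]
  have h1 : ℓ ^ n = 1 := (h.pts L ℓ).1 ⟨𝟙 _, Category.id_comp _⟩
  have h2 : ∀ s : PullbackCone ((𝟙 H : H ⟶ H) ^ n) η[H], ∃ y : s.pt ⟶ L, y ≫ ℓ = s.fst := by
    intro s
    refine (h.pts s.pt s.fst).2 ?_
    have h2 := s.condition
    rw [hc] at h2
    rw [h2, toUnit_unique s.snd (toUnit _)]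
    rfl
  choose y hy using h2
  refine ⟨⟨?_⟩, ⟨PullbackCone.IsLimit.mk _ y hy ?_ ?_⟩⟩
  · rw [hc, h1]
    rfl
  · intro s
    exact toUnit_unique _ _
  · intro s m hm _
    rw [← cancel_mono ℓ, hm, hy]

/-- The `n`-torsion of a torus. -/
theorem exists_tors_smooth (T : Over S) [GrpObj T] (hT : Red.IsTorus T) (n : ℕ)
    (hn : ∀ s : S, (n : S.residueField s) ≠ 0) :
    ∃ (L : Over S) (_ : GrpObj L) (ℓ : L ⟶ T), IsTors n ℓ ∧ IsClosedImmersion ℓ.left ∧ Smooth L.hom := by
  have haffh : IsAffineHom T.hom := Sga3B.TorusAlgClosed.isAffineHom_of_isTorus hT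
  have hsm : Smooth T.hom := Sga3B.TorusAlgClosed.smooth_of_isTorus hT
  have hcomm : ∀ (X : Over S) (x y : X ⟶ T), x * y = y * x := fun X x y =>
    Sga3B.MaxTorNear900.mul_comm_of_isTorus hT X x y
  obtain ⟨L, _, ℓ, hℓ, hcl⟩ := exists_tors n hcomm
  refine ⟨L, inferInstance, ℓ, hℓ, hcl, ?_⟩
  have hc : IsCommMonObj T := ⟨by
    have h1 := hcomm (T ⊗ T) (snd T T) (fst T T)
    have h2 : (β_ T T).hom ≫ μ[T] = snd T T * fst T T := by
      rw [Hom.mul_def]
      congr 1
    have h3 : μ[T] = fst T T * snd T T := by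
      rw [Hom.mul_def, lift_fst_snd, Category.id_comp]
    rw [h2, h1, ← h3]⟩
  have het : Etale ((𝟙 T : T ⟶ T) ^ n).left := Sga7.H751.PowEtale.etale_pow T n hn
  have hk := (isKernel_of_isTors hℓ).map (Over.forget S)
  have h4 : Etale (toUnit L).left := MorphismProperty.of_isPullback (P := @Etale) hk het
  have h5 : (toUnit L).left = L.hom := by
    have h6 := Over.w (toUnit L)
    exact (Category.comp_id _).symm.trans h6
  rw [h5] at h4
  infer_instance

end K17.TorsKer
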