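import Mathlib.Algebra.MonoidAlgebra.MapDomain
import Mathlib.Algebra.MonoidAlgebra.Basic
import Mathlib.LinearAlgebra.LinearIndependent.Basic
import Mathlib.RingTheory.RootsOfUnity.AlgebraicallyClosed
import Mathlib.GroupTheory.QuotientGroup.Basic

/-!
# Density of the characters of `q`-power order of `ℤ^r`
-/

set_option autoImplicit false
universe u

namespace K17.CharPts

/-- `ℤ^r`, multiplicatively -/
abbrev Γ (r : ℕ) := Multiplicative (Fin r → ℤ)

variable {r : ℕ} (K : Type u) [Field K] (q : ℕ)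

/-- the characters with values of `q`-power order -/
def tors (r : ℕ) : Subgroup (Γ r →* Kˣ) where
  carrier := {τ | ∃ k : ℕ, ∀ γ, τ γ ^ (q ^ k) = 1}
  mul_mem' := by
    rintro τ τ' ⟨k, hk⟩ ⟨l, hl⟩
    refine ⟨k + l, fun γ => ?_⟩
    rw [MonoidHom.mul_apply, mul_pow, pow_add, pow_mul, hk, one_pow, one_mul, mul_comm, pow_mul, hl, one_pow]
  one_mem' := ⟨0, fun γ => by simp⟩
  inv_mem' := by
    rintro τ ⟨k, hk⟩
    exact ⟨k, fun γ => by rw [MonoidHom.inv_apply, inv_pow, hk, inv_one]⟩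

/-- evaluation at an element of `ℤ^r` -/
def ev (γ : Γ r) : tors K q r →* K where
  toFun τ := (τ.1 γ : K)
  map_one' := by simp
  map_mul' := by simp

variable {q} in
lemma ev_injective [IsAlgClosed K] (hq : 1 < q) (hqK : (q : K) ≠ 0) : Function.Injective (ev (r := r) K q) := by
  intro γ γ' h
  by_contra hne
  have h1 : ∃ i, γ.toAdd i ≠ γ'.toAdd i := by
    by_contra hall
    push Not at hall
    exact hne (Multiplicative.toAdd.injective (funext hall))
  obtain ⟨i, hi⟩ := h1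
  have hne' : γ.toAdd i - γ'.toAdd i ≠ 0 := sub_ne_zero.2 hi
  obtain ⟨k, hk⟩ : ∃ k : ℕ, (γ.toAdd i - γ'.toAdd i).natAbs < q ^ k :=
    ⟨_, Nat.lt_pow_self hq⟩
  have : NeZero ((q ^ k : ℕ) : K) := ⟨by rw [Nat.cast_pow]; exact pow_ne_zero _ hqK⟩
  obtain ⟨ζ, hζ⟩ := HasEnoughRootsOfUnity.exists_primitiveRoot K (q ^ k)
  have hpos : q ^ k ≠ 0 := (pow_pos (by omega) k).ne'
  let z : Kˣ := (hζ.isUnit hpos).unit
  have hz : IsPrimitiveRoot z (q ^ k) := hζ.isUnit_unit hpos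
  let τ : Γ r →* Kˣ := (zpowersHom Kˣ z).comp
    (AddMonoidHom.toMultiplicative (Pi.evalAddMonoidHom (fun _ : Fin r => ℤ) i))
  have hτ : ∀ δ : Γ r, τ δ = z ^ (δ.toAdd i) := fun δ => rfl
  have hτ' : ∀ δ, τ δ ^ (q ^ k) = 1 := by
    intro δ
    rw [hτ, ← zpow_natCast, ← zpow_mul, mul_comm, zpow_mul, zpow_natCast, hz.pow_eq_one, one_zpow]
  have h2 : τ γ = τ γ' := Units.ext (DFunLike.congr_fun h (⟨τ, k, hτ'⟩ : tors K q r))
  rw [hτ, hτ] at h2
  have h3 : z ^ (γ.toAdd i - γ'.toAdd i) = 1 := by rw [zpow_sub, h2, mul_inv_cancel]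
  rw [hz.zpow_eq_one_iff_dvd] at h3
  have h4 := Int.natAbs_dvd_natAbs.2 h3
  rw [Int.natAbs_natCast] at h4
  exact absurd (Nat.le_of_dvd (Int.natAbs_pos.2 hne') h4) (not_le.2 hk)

variable {K q} in
/-- A nonzero element of the group algebra does not vanish at some point of `q`-power order. -/
theorem exists_tors [IsAlgClosed K] (hq : 1 < q) (hqK : (q : K) ≠ 0) (g : MonoidAlgebra K (Γ r)) (hg : g ≠ 0) :
    ∃ (k : ℕ) (τ : Γ r →* K), (∀ γ, τ γ ^ (q ^ k) = 1) ∧ MonoidAlgebra.lift K K (Γ r) τ g ≠ 0 := by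
  by_contra hall
  push Not at hall
  apply hg
  have hli := (linearIndependent_monoidHom (tors K q r) K).comp (ev K q) (ev_injective K hq hqK)
  have h1 : g.coeff = 0 := by
    refine linearIndependent_iff.1 hli g.coeff ?_
    ext ⟨τ, k, hk⟩
    rw [Finsupp.linearCombination_apply, Finsupp.sum_apply']
    have h2 := hall k ((Units.coeHom K).comp τ) (fun δ => by
      rw [MonoidHom.comp_apply, ← map_pow, hk, map_one])
    rw [MonoidAlgebra.lift_apply] at h2
    exact h2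
  ext γ
  rw [h1]
  rfl

end K17.CharPts
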