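import Groth.Agent.SGA3x.K17.LinSys
import Mathlib.RingTheory.FiniteType
import Mathlib.RingTheory.RingHom.FiniteType

/-!
# The linear system of the maps out of a first order neighbourhood
-/

set_option autoImplicit false
universe u

namespace K17.FirstOrd

open K17.LinSys

variable {R B C : Type u} [CommRing R] [CommRing B] [CommRing C] (α : R →+* B) (ε : B →+* C)

section span

variable {α ε}

lemma exists_rep (hsurj : Function.Surjective (ε.comp α)) (hN : RingHom.ker ε ^ 2 = ⊥) {n : ℕ} (ν : Fin n → B)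
    (hν : Ideal.span (Set.range ν) = RingHom.ker ε) (b : B) :
    ∃ (r : R) (f : Fin n → R), b = α r + ∑ i, α (f i) * ν i := by
  obtain ⟨r, hr⟩ := hsurj (ε b)
  have h1 : b - α r ∈ RingHom.ker ε := by
    rw [RingHom.mem_ker, map_sub, sub_eq_zero]
    exact hr.symm
  rw [← hν, Ideal.mem_span_range_iff_exists_fun] at h1
  obtain ⟨g, hg⟩ := h1
  choose f hf using fun i => hsurj (ε (g i))
  refine ⟨r, f, ?_⟩
  have h2 : ∀ i, g i * ν i = α (f i) * ν i := by
    intro i
    have h3 : (g i - α (f i)) * ν i ∈ RingHom.ker ε ^ 2 := by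
      rw [pow_two]
      refine Ideal.mul_mem_mul ?_ ?_
      · rw [RingHom.mem_ker, map_sub, sub_eq_zero]
        exact (hf i).symm
      · rw [← hν]
        exact Ideal.subset_span ⟨i, rfl⟩
    rw [hN, Ideal.mem_bot, sub_mul, sub_eq_zero] at h3
    exact h3
  rw [← sub_eq_iff_eq_add', ← hg]
  exact Finset.sum_congr rfl fun i _ => h2 i

end span

/-- the relations -/
def rel {n : ℕ} (ν : Fin n → B) : Submodule R ((Fin n → R) × R) where
  carrier := {z | z.2 ∈ RingHom.ker (ε.comp α) ∧ ∑ i, α (z.1 i) * ν i = α z.2}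
  add_mem' := by
    rintro z w ⟨h1, h2⟩ ⟨h3, h4⟩
    refine ⟨add_mem h1 h3, ?_⟩
    simp only [Prod.fst_add, Prod.snd_add, Pi.add_apply, map_add, add_mul, Finset.sum_add_distrib, h2, h4]
  zero_mem' := ⟨zero_mem _, by simp⟩
  smul_mem' := by
    rintro r z ⟨h1, h2⟩
    refine ⟨Ideal.mul_mem_left _ _ h1, ?_⟩
    simp only [Prod.smul_fst, Prod.smul_snd, Pi.smul_apply, smul_eq_mul, map_mul, mul_assoc, ← Finset.mul_sum, h2]

/-- **The linear system.** -/
theorem exists_system [IsNoetherianRing R] (hα : α.FiniteType) (hsurj : Function.Surjective (ε.comp α))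
    (hN : RingHom.ker ε ^ 2 = ⊥) :
    ∃ (m n : ℕ) (c : Fin m → Fin n → R) (a : Fin m → R), (∀ j, a j ∈ RingHom.ker (ε.comp α)) ∧
      ∀ (D : Type u) [CommRing D] (φ : R →+* D), (RingHom.ker (ε.comp α)).map φ ^ 2 = ⊥ →
        (Sol (RingHom.ker (ε.comp α)) c a D φ ↔
          ∃ ψ : B →+* D, ψ.comp α = φ ∧ ∀ b ∈ RingHom.ker ε, ψ b ∈ (RingHom.ker (ε.comp α)).map φ) := by
  classical
  have hBn : IsNoetherianRing B := by
    algebraize [α]
    exact Algebra.FiniteType.isNoetherianRing R B
  obtain ⟨n, ν, hν⟩ := Submodule.fg_iff_exists_fin_generating_family.1 (IsNoetherian.noetherian (RingHom.ker ε))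
  obtain ⟨m, k, hk⟩ := Submodule.fg_iff_exists_fin_generating_family.1 (IsNoetherian.noetherian (rel α ε ν))
  have hν' : Ideal.span (Set.range ν) = RingHom.ker ε := hν
  have hkm : ∀ j, k j ∈ rel α ε ν := fun j => by rw [← hk]; exact Submodule.subset_span ⟨j, rfl⟩
  refine ⟨m, n, fun j => (k j).1, fun j => (k j).2, fun j => (hkm j).1, fun D _ φ hD => ⟨?_, ?_⟩⟩
  · rintro ⟨x, hx, hx'⟩
    have hrel : ∀ z ∈ rel α ε ν, ∑ i, φ (z.1 i) * x i = φ z.2 := by
      intro z hz
      rw [← hk] at hz
      refine Submodule.span_induction ?_ ?_ ?_ ?_ hz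
      · rintro _ ⟨j, rfl⟩
        exact hx' j
      · simp
      · intro z w _ _ h1 h2
        simp only [Prod.fst_add, Prod.snd_add, Pi.add_apply, map_add, add_mul, Finset.sum_add_distrib, h1, h2]
      · intro r z _ h1
        simp only [Prod.smul_fst, Prod.smul_snd, Pi.smul_apply, smul_eq_mul, map_mul, mul_assoc, ← Finset.mul_sum, h1]
    choose ρ f hf using exists_rep hsurj hN ν hν'
    have key : ∀ (b : B) (r : R) (g : Fin n → R), b = α r + ∑ i, α (g i) * ν i →
        φ (ρ b) + ∑ i, φ (f b i) * x i = φ r + ∑ i, φ (g i) * x i := by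
      intro b r g hb
      have h1 : α r + ∑ i, α (g i) * ν i = α (ρ b) + ∑ i, α (f b i) * ν i := by rw [← hb, ← hf b]
      have h2 : ((g - f b, ρ b - r) : (Fin n → R) × R) ∈ rel α ε ν := by
        have h3 : ∑ i, α ((g - f b) i) * ν i = α (ρ b - r) := by
          simp only [Pi.sub_apply, map_sub, sub_mul, Finset.sum_sub_distrib]
          linear_combination h1
        refine ⟨?_, h3⟩
        rw [RingHom.mem_ker, RingHom.comp_apply]
        change ε (α (ρ b - r)) = 0
        rw [← h3, map_sum]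
        refine Finset.sum_eq_zero fun i _ => ?_
        have h4 : ν i ∈ RingHom.ker ε := by rw [← hν']; exact Ideal.subset_span ⟨i, rfl⟩
        rw [map_mul, (RingHom.mem_ker).1 h4, mul_zero]
      have h5 := hrel _ h2
      simp only [Pi.sub_apply, map_sub, sub_mul, Finset.sum_sub_distrib] at h5
      linear_combination -h5
    have hxx : ∀ y ∈ (RingHom.ker (ε.comp α)).map φ, ∀ z ∈ (RingHom.ker (ε.comp α)).map φ, y * z = 0 := by
      intro y hy z hz
      have h1 := Ideal.mul_mem_mul hy hz
      rw [← pow_two, hD] at h1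
      exact h1
    have hsum : ∀ g : Fin n → R, ∑ i, φ (g i) * x i ∈ (RingHom.ker (ε.comp α)).map φ := fun g =>
      sum_mem fun i _ => Ideal.mul_mem_left _ _ (hx i)
    have hsum' : ∀ g : Fin n → R, ∑ i, α (g i) * ν i ∈ RingHom.ker ε := fun g =>
      sum_mem fun i _ => Ideal.mul_mem_left _ _ (by rw [← hν']; exact Ideal.subset_span ⟨i, rfl⟩)
    refine ⟨{ toFun := fun b => φ (ρ b) + ∑ i, φ (f b i) * x i
              map_one' := ?_
              map_mul' := ?_
              map_zero' := ?_
              map_add' := ?_ }, ?_, ?_⟩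
    · rw [key 1 1 0 (by simp)]
      simp
    · intro b b'
      have h1 : ((∑ i, α (f b i) * ν i) * ∑ i, α (f b' i) * ν i) = 0 := by
        have h2 := Ideal.mul_mem_mul (hsum' (f b)) (hsum' (f b'))
        rw [← pow_two, hN] at h2
        exact h2
      have h3 := hxx _ (hsum (f b)) _ (hsum (f b'))
      rw [key (b * b') (ρ b * ρ b') (fun i => ρ b * f b' i + ρ b' * f b i) ?_]
      · simp only [map_add, map_mul, add_mul, Finset.sum_add_distrib, mul_assoc, ← Finset.mul_sum]
        linear_combination -h3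
      · conv_lhs => rw [hf b, hf b']
        simp only [map_add, map_mul, add_mul, Finset.sum_add_distrib, mul_assoc, ← Finset.mul_sum]
        linear_combination h1
    · rw [key 0 0 0 (by simp)]
      simp
    · intro b b'
      rw [key (b + b') (ρ b + ρ b') (fun i => f b i + f b' i) ?_]
      · simp only [map_add, add_mul, Finset.sum_add_distrib]
        ring
      · conv_lhs => rw [hf b, hf b']
        simp only [map_add, add_mul, Finset.sum_add_distrib]
        ring
    · ext r
      change φ (ρ (α r)) + ∑ i, φ (f (α r) i) * x i = φ r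
      rw [key (α r) r 0 (by simp)]
      simp
    · intro b hb
      change φ (ρ b) + ∑ i, φ (f b i) * x i ∈ _
      refine add_mem (Ideal.mem_map_of_mem φ ?_) (hsum _)
      rw [RingHom.mem_ker, RingHom.comp_apply]
      have h1 := hf b
      have h2 : α (ρ b) = b - ∑ i, α (f b i) * ν i := by rw [eq_sub_iff_add_eq]; exact h1.symm
      rw [h2, map_sub, (RingHom.mem_ker).1 hb, (RingHom.mem_ker).1 (hsum' (f b)), sub_zero]
  · rintro ⟨ψ, hψ, hψ'⟩
    refine ⟨fun i => ψ (ν i), fun i => hψ' _ (by rw [← hν']; exact Ideal.subset_span ⟨i, rfl⟩), fun j => ?_⟩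
    have h1 := congrArg ψ (hkm j).2
    rw [map_sum] at h1
    simp only [map_mul] at h1
    rw [← hψ]
    exact h1

end K17.FirstOrd
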