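import Groth.Agent.SGA3x.K17.FirstOrd
import Groth.Agent.SGA3x.K17.SubLift
import Groth.Agent.AlgSp.K634.Quot
import Groth.Agent.Flat2H.FSNbhd
import Groth.Agent.Sga3B.InfConj

/-!
# Points at which a morphism of reductions lifts, and linear systems
-/

set_option autoImplicit false
universe u
open CategoryTheory MonoidalCategory CartesianMonoidalCategory MonObj GrpObj AlgebraicGeometry Limits

namespace K17.LiftP

open Groth.Agent K17.NilLift K17.LinSys K634.Quot
open Groth.Agent.Sga3B.InfConj (pt ptMap ptMap_left)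

section

variable {A : Type u} [CommRing A] {J : Ideal A} {T G : Over (Spec (CommRingCat.of A))}
  (φ : (Over.pullback (cl J)).obj T ⟶ (Over.pullback (cl J)).obj G)

/-- The reduction of `t`, composed with `φ`, lifts. -/
def Lif {X : Over (Spec (CommRingCat.of A))} (t : X ⟶ T) : Prop :=
  ∃ y : X ⟶ G, (Over.pullback (cl J)).map y = (Over.pullback (cl J)).map t ≫ φ

lemma Lif.comp {X X' : Over (Spec (CommRingCat.of A))} {t : X ⟶ T} (h : Lif φ t) (g : X' ⟶ X) :
    Lif φ (g ≫ t) := by
  obtain ⟨y, hy⟩ := h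
  exact ⟨g ≫ y, by rw [Functor.map_comp, Functor.map_comp, hy, Category.assoc]⟩

lemma Lif.mul [GrpObj T] [GrpObj G] [IsMonHom φ] {X : Over (Spec (CommRingCat.of A))} {t t' : X ⟶ T}
    (h : Lif φ t) (h' : Lif φ t') : Lif φ (t * t') := by
  obtain ⟨y, hy⟩ := h
  obtain ⟨y', hy'⟩ := h'
  exact ⟨y * y', by rw [Functor.map_mul, Functor.map_mul, hy, hy', MonObj.mul_comp]⟩

lemma Lif.of_iso {T' : Over (Spec (CommRingCat.of A))} (e : T ≅ T') {X : Over (Spec (CommRingCat.of A))}
    {t : X ⟶ T} : Lif φ t ↔ Lif ((Over.pullback (cl J)).map e.inv ≫ φ) (t ≫ e.hom) := by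
  refine exists_congr fun y => ?_
  rw [Functor.map_comp, Category.assoc, ← Category.assoc ((Over.pullback (cl J)).map e.hom), ← Functor.map_comp,
    Iso.hom_inv_id, CategoryTheory.Functor.map_id, Category.id_comp]

lemma map_eq_iff {X : Over (Spec (CommRingCat.of A))} (y : X ⟶ G)
    (ξ : (Over.pullback (cl J)).obj X ⟶ (Over.pullback (cl J)).obj G) :
    (Over.pullback (cl J)).map y = ξ ↔
      pullback.fst X.hom (cl J) ≫ y.left = ξ.left ≫ pullback.fst G.hom (cl J) := by
  have h1 : ((Over.pullback (cl J)).map y).left ≫ pullback.fst G.hom (cl J) =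
      pullback.fst X.hom (cl J) ≫ y.left := pullback.lift_fst _ _ _
  constructor
  · intro h
    rw [← h, h1]
  · intro h
    ext1
    apply pullback.hom_ext
    · rw [h1, h]
    · exact (Over.w ((Over.pullback (cl J)).map y)).trans (Over.w ξ).symm

end

section

variable {A : Type u} [CommRing A] {J : Ideal A}

/-- the reduction of `Spec D` -/
noncomputable def red (J : Ideal A) (D : Type u) [CommRing D] [Algebra A D] :
    Spec (CommRingCat.of (D ⧸ J.map (algebraMap A D))) ≅ pullback (pt A D).hom (cl J) :=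
  (isPullback_quot (algebraMap A D) J).isoPullback

lemma red_fst (D : Type u) [CommRing D] [Algebra A D] :
    (red J D).hom ≫ pullback.fst (pt A D).hom (cl J) =
      Spec.map (CommRingCat.ofHom (Ideal.Quotient.mk (J.map (algebraMap A D)))) :=
  (isPullback_quot (algebraMap A D) J).isoPullback_hom_fst

lemma red_snd (D : Type u) [CommRing D] [Algebra A D] :
    (red J D).hom ≫ pullback.snd (pt A D).hom (cl J) =
      Spec.map (CommRingCat.ofHom (qmap (algebraMap A D) J)) :=
  (isPullback_quot (algebraMap A D) J).isoPullback_hom_snd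

/-- the induced map of the reductions -/
def fbar (J : Ideal A) {R D : Type u} [CommRing R] [Algebra A R] [CommRing D] [Algebra A D] (f : R →ₐ[A] D) :
    R ⧸ J.map (algebraMap A R) →+* D ⧸ J.map (algebraMap A D) :=
  Ideal.quotientMap _ f.toRingHom (by
    rw [← Ideal.map_le_iff_le_comap, Ideal.map_map]
    refine le_of_eq ?_
    congr 1
    ext x
    exact f.commutes x)

lemma red_naturality {R D : Type u} [CommRing R] [Algebra A R] [CommRing D] [Algebra A D] (f : R →ₐ[A] D) :
    Spec.map (CommRingCat.ofHom (fbar J f)) ≫ (red J R).hom =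
      (red J D).hom ≫ ((Over.pullback (cl J)).map (ptMap f)).left := by
  apply pullback.hom_ext
  · rw [Category.assoc, Category.assoc, red_fst]
    refine Eq.trans ?_ ((congrArg (fun z => (red J D).hom ≫ z)
      (pullback.lift_fst (pullback.fst (pt A D).hom (cl J) ≫ (ptMap f).left)
        (pullback.snd (pt A D).hom (cl J)) _)).symm)
    rw [← Category.assoc, red_fst, ptMap_left, ← Spec.map_comp, ← Spec.map_comp, ← CommRingCat.ofHom_comp,
      ← CommRingCat.ofHom_comp]
    rfl
  · rw [Category.assoc, Category.assoc, red_snd]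
    refine Eq.trans ?_ ((congrArg (fun z => (red J D).hom ≫ z)
      (pullback.lift_snd (pullback.fst (pt A D).hom (cl J) ≫ (ptMap f).left)
        (pullback.snd (pt A D).hom (cl J)) _)).symm)
    rw [red_snd, ← Spec.map_comp, ← CommRingCat.ofHom_comp]
    congr 2
    refine Ideal.Quotient.ringHom_ext ?_
    ext x
    exact congrArg (Ideal.Quotient.mk _) (f.commutes x)

/-- **The linear system of the lifting problem.** -/
theorem exists_system (hJ : J ^ 2 = ⊥) {R : Type u} [CommRing R] [Algebra A R] [IsNoetherianRing R]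
    {G : Over (Spec (CommRingCat.of A))} [LocallyOfFiniteType G.hom]
    (φ : (Over.pullback (cl J)).obj (pt A R) ⟶ (Over.pullback (cl J)).obj G) :
    ∃ (m n : ℕ) (c : Fin m → Fin n → R) (a : Fin m → R), (∀ j, a j ∈ J.map (algebraMap A R)) ∧
      ∀ (D : Type u) [CommRing D] [Algebra A D] (f : R →ₐ[A] D),
        Sol (J.map (algebraMap A R)) c a D f.toRingHom ↔ Lif φ (ptMap f) := by
  let p : pullback (pt A R).hom G.hom ⟶ Spec (CommRingCat.of R) := pullback.fst _ _
  let mkR : CommRingCat.of R ⟶ CommRingCat.of (R ⧸ J.map (algebraMap A R)) :=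
    CommRingCat.ofHom (Ideal.Quotient.mk (J.map (algebraMap A R)))
  let g₀ : Spec (CommRingCat.of (R ⧸ J.map (algebraMap A R))) ⟶ G.left :=
    (red J R).hom ≫ φ.left ≫ pullback.fst G.hom (cl J)
  have hg₀ : Spec.map mkR ≫ (pt A R).hom = g₀ ≫ G.hom := by
    have h1 : φ.left ≫ pullback.snd G.hom (cl J) = pullback.snd (pt A R).hom (cl J) := Over.w φ
    simp only [g₀, Category.assoc]
    rw [pullback.condition, ← Category.assoc φ.left, h1, ← pullback.condition, ← Category.assoc, red_fst]
  let σ : Spec (CommRingCat.of (R ⧸ J.map (algebraMap A R))) ⟶ pullback (pt A R).hom G.hom :=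
    pullback.lift (Spec.map mkR) g₀ hg₀
  have hmk : RingHom.ker mkR.hom = J.map (algebraMap A R) := Ideal.mk_ker
  obtain ⟨B, α, ε, κ, hκ, hαε, hN, hεσ, hκp, huniv⟩ := Flat2H.FSNbhd.exists_firstOrderNbhd mkR
    Ideal.Quotient.mk_surjective (by rw [hmk]; exact map_sq _ _ hJ) p σ (pullback.lift_fst _ _ _)
  have hα : α.hom.FiniteType := by
    have h1 : LocallyOfFiniteType (Spec.map α) := by
      rw [← hκp]
      infer_instance
    exact (HasRingHomProperty.Spec_iff (P := @LocallyOfFiniteType)).1 h1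
  have hcomp : ε.hom.comp α.hom = Ideal.Quotient.mk (J.map (algebraMap A R)) := by
    rw [← CommRingCat.hom_comp, hαε]
    rfl
  have hker : RingHom.ker (ε.hom.comp α.hom) = J.map (algebraMap A R) := by rw [hcomp, Ideal.mk_ker]
  obtain ⟨m, n, c, a, ha, hsys⟩ := FirstOrd.exists_system α.hom ε.hom hα
    (by rw [hcomp]; exact Ideal.Quotient.mk_surjective) hN
  rw [hker] at ha hsys
  refine ⟨m, n, c, a, ha, fun D _ _ f => ?_⟩
  have hD : (J.map (algebraMap A R)).map f.toRingHom = J.map (algebraMap A D) := by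
    rw [Ideal.map_map]
    congr 1
    ext x
    exact f.commutes x
  rw [hsys D f.toRingHom (by rw [hD]; exact map_sq _ _ hJ), hD]
  have hlift : ∀ y : pt A D ⟶ G, (Over.pullback (cl J)).map y = (Over.pullback (cl J)).map (ptMap f) ≫ φ ↔
      Spec.map (CommRingCat.ofHom (Ideal.Quotient.mk (J.map (algebraMap A D)))) ≫ y.left =
        Spec.map (CommRingCat.ofHom (fbar J f)) ≫ g₀ := by
    intro y
    rw [map_eq_iff, ← cancel_epi (red J D).hom, ← Category.assoc, red_fst]
    simp only [g₀]
    rw [← Category.assoc (Spec.map (CommRingCat.ofHom (fbar J f))), red_naturality, Over.comp_left, Category.assoc,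
      Category.assoc]
  constructor
  · rintro ⟨ψ, hψ, hψ'⟩
    have h1 : ε ≫ CommRingCat.ofHom (fbar J f) =
        CommRingCat.ofHom ψ ≫ CommRingCat.ofHom (Ideal.Quotient.mk (J.map (algebraMap A D))) := by
      ext b
      obtain ⟨r, hr⟩ := Ideal.Quotient.mk_surjective (ε.hom b)
      have h2 : b - α.hom r ∈ RingHom.ker ε.hom := by
        rw [RingHom.mem_ker, map_sub, sub_eq_zero, ← hr, ← hcomp]
        rfl
      have h3 := hψ' _ h2
      rw [map_sub, ← Ideal.Quotient.eq] at h3
      change fbar J f (ε.hom b) = Ideal.Quotient.mk _ (ψ b)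
      rw [h3, ← hr]
      change Ideal.Quotient.mk _ (f.toRingHom r) = _
      rw [← hψ]
      rfl
    refine ⟨Over.homMk (Spec.map (CommRingCat.ofHom ψ) ≫ κ ≫ pullback.snd _ _) ?_, (hlift _).2 ?_⟩
    · change (Spec.map (CommRingCat.ofHom ψ) ≫ κ ≫ pullback.snd (pt A R).hom G.hom) ≫ G.hom = (pt A D).hom
      rw [Category.assoc, Category.assoc, ← pullback.condition, ← Category.assoc κ]
      change Spec.map (CommRingCat.ofHom ψ) ≫ (κ ≫ p) ≫ (pt A R).hom = _
      rw [hκp, ← Category.assoc, ← Spec.map_comp]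
      have h4 : α ≫ CommRingCat.ofHom ψ = CommRingCat.ofHom f.toRingHom := by
        ext x
        exact congrArg (fun z => z x) hψ
      rw [h4]
      exact Over.w (ptMap f)
    · change Spec.map (CommRingCat.ofHom (Ideal.Quotient.mk (J.map (algebraMap A D)))) ≫
        Spec.map (CommRingCat.ofHom ψ) ≫ κ ≫ pullback.snd (pt A R).hom G.hom = _
      rw [← Category.assoc, ← Spec.map_comp, ← h1, Spec.map_comp, Category.assoc, ← Category.assoc (Spec.map ε), hεσ]
      congr 1
      exact pullback.lift_snd _ _ _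
  · rintro ⟨y, hy⟩
    rw [hlift] at hy
    let mkD : CommRingCat.of D ⟶ CommRingCat.of (D ⧸ J.map (algebraMap A D)) :=
      CommRingCat.ofHom (Ideal.Quotient.mk (J.map (algebraMap A D)))
    have hmkD : RingHom.ker mkD.hom = J.map (algebraMap A D) := Ideal.mk_ker
    have hw : Spec.map (CommRingCat.ofHom f.toRingHom) ≫ (pt A R).hom = y.left ≫ G.hom :=
      (Over.w (ptMap f)).trans (Over.w y).symm
    let u : Spec (CommRingCat.of D) ⟶ pullback (pt A R).hom G.hom :=
      pullback.lift (Spec.map (CommRingCat.ofHom f.toRingHom)) y.left hw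
    have hu1 : u ≫ pullback.fst (pt A R).hom G.hom = Spec.map (CommRingCat.ofHom f.toRingHom) :=
      pullback.lift_fst _ _ _
    have hu2 : u ≫ pullback.snd (pt A R).hom G.hom = y.left := pullback.lift_snd _ _ _
    have hσ1 : σ ≫ pullback.fst (pt A R).hom G.hom = Spec.map mkR := pullback.lift_fst _ _ _
    have hσ2 : σ ≫ pullback.snd (pt A R).hom G.hom = g₀ := pullback.lift_snd _ _ _
    have hu : Spec.map mkD ≫ u = Spec.map (CommRingCat.ofHom (fbar J f)) ≫ σ := by
      apply pullback.hom_ext
      · rw [Category.assoc, Category.assoc, hu1, hσ1, ← Spec.map_comp, ← Spec.map_comp]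
        rfl
      · rw [Category.assoc, Category.assoc, hu2, hσ2]
        exact hy
    obtain ⟨ψ, hψ⟩ := huniv (CommRingCat.of D) _ mkD Ideal.Quotient.mk_surjective
      (by rw [hmkD]; exact map_sq _ _ hJ) u _ hu
    have h1 : α ≫ ψ = CommRingCat.ofHom f.toRingHom := by
      apply Spec.map_injective
      rw [Spec.map_comp, ← hκp, ← Category.assoc, hψ]
      exact hu1
    have h2 : ε ≫ CommRingCat.ofHom (fbar J f) = ψ ≫ mkD := by
      apply Spec.map_injective
      rw [← cancel_mono κ, Spec.map_comp, Spec.map_comp, Category.assoc, Category.assoc, hεσ, hψ, hu]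
    refine ⟨ψ.hom, ?_, fun b hb => ?_⟩
    · rw [← CommRingCat.hom_comp, h1]
      rfl
    · have h3 := congrArg (fun z => z.hom b) h2
      rw [RingHom.mem_ker] at hb
      have h4 : fbar J f (ε.hom b) = Ideal.Quotient.mk (J.map (algebraMap A D)) (ψ.hom b) := h3
      rw [hb, map_zero] at h4
      exact Ideal.Quotient.eq_zero_iff_mem.1 h4.symm

end

end K17.LiftP
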